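import Cfsg.Agent.H856.ToHyp
import Cfsg.Agent.J4Type.Top

/-!
# A finite simple group of Janko-four type is isomorphic to the presented `J₄` (helper859)
-/

set_option autoImplicit false

namespace Cfsg.Agent.H859.Iso

/-- **A finite simple group of Janko-four type is isomorphic to `J₄`.** -/
theorem exists_iso {G : Type*} [Group G] [Finite G] [IsSimpleGroup G] (h : Cfsg.IsOfJankoFourType G) :
    Nonempty (Cfsg.Spor.J4 ≃* G) := by
  obtain ⟨z, P, hP⟩ := h
  obtain ⟨Q, N, M, H, -, -⟩ := Cfsg.Agent.H856.ToHyp.exists_hyp hP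
  obtain ⟨f, hf⟩ := Cfsg.Agent.J4Type.Top.main H
  exact ⟨MulEquiv.ofBijective f hf⟩

end Cfsg.Agent.H859.Iso
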