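import Mathlib
import Cfsg.Prelude.Def_Transfer
import Cfsg.Agent.J2Type.ExtCube

/-!
# Extraspecial groups of order `p ^ 3` and exponent `p` from generators (`p` odd)

`Rel p a b w` : `a`, `b`, `w` of order dividing `p`, `w ≠ 1` central, `b a = a b w`.
The subgroup `gp h` they generate has order `p ^ 3`, exponent `p` and centre `⟨w⟩`.
-/

set_option autoImplicit false

namespace Cfsg.Agent.H859.Heis

open Subgroup

variable {G : Type*} [Group G] {p : ℕ}

structure Rel (p : ℕ) (a b w : G) : Prop where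
  ap : a ^ p = 1
  bp : b ^ p = 1
  wp : w ^ p = 1
  aw : a * w = w * a
  bw : b * w = w * b
  ba : b * a = a * b * w
  w1 : w ≠ 1

variable {a b w : G}

theorem Rel.ba1 (h : Rel p a b w) (j : ℕ) : b ^ j * a = a * b ^ j * w ^ j := by
  induction j with
  | zero => simp
  | succ j ih =>
    have c : Commute (w ^ j) b := (show Commute w b from h.bw.symm).pow_left j
    calc b ^ (j + 1) * a = b ^ j * (b * a) := by rw [pow_succ, mul_assoc]
      _ = (b ^ j * a) * b * w := by rw [h.ba]; group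
      _ = a * b ^ j * (w ^ j * b) * w := by rw [ih]; group
      _ = a * b ^ (j + 1) * w ^ (j + 1) := by rw [c.eq, pow_succ, pow_succ]; group

theorem Rel.ba2 (h : Rel p a b w) (j i : ℕ) : b ^ j * a ^ i = a ^ i * b ^ j * w ^ (j * i) := by
  induction i with
  | zero => simp
  | succ i ih =>
    have c : Commute (w ^ (j * i)) a := (show Commute w a from h.aw.symm).pow_left _
    calc b ^ j * a ^ (i + 1) = (b ^ j * a ^ i) * a := by rw [pow_succ, mul_assoc]
      _ = a ^ i * b ^ j * (w ^ (j * i) * a) := by rw [ih]; group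
      _ = a ^ i * (b ^ j * a) * w ^ (j * i) := by rw [c.eq]; group
      _ = a ^ (i + 1) * b ^ j * w ^ (j * (i + 1)) := by
        rw [h.ba1, pow_succ a, mul_add, mul_one, add_comm, pow_add]; group

theorem Rel.mul (h : Rel p a b w) (i j k i' j' k' : ℕ) :
    (a ^ i * b ^ j * w ^ k) * (a ^ i' * b ^ j' * w ^ k') = a ^ (i + i') * b ^ (j + j') * w ^ (k + k' + j * i') := by
  have c1 : Commute (w ^ k) (a ^ i') := (show Commute w a from h.aw.symm).pow_pow _ _
  have c2 : Commute (w ^ k) (b ^ j') := (show Commute w b from h.bw.symm).pow_pow _ _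
  have c3 : Commute (w ^ (j * i')) (b ^ j') := (show Commute w b from h.bw.symm).pow_pow _ _
  calc (a ^ i * b ^ j * w ^ k) * (a ^ i' * b ^ j' * w ^ k')
      = a ^ i * b ^ j * (w ^ k * a ^ i') * b ^ j' * w ^ k' := by group
    _ = a ^ i * (b ^ j * a ^ i') * (w ^ k * b ^ j') * w ^ k' := by rw [c1.eq]; group
    _ = a ^ i * a ^ i' * b ^ j * (w ^ (j * i') * b ^ j') * w ^ k * w ^ k' := by rw [c2.eq, h.ba2]; group
    _ = a ^ i * a ^ i' * (b ^ j * b ^ j') * (w ^ (j * i') * w ^ k * w ^ k') := by rw [c3.eq]; group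
    _ = _ := by
      rw [← pow_add, ← pow_add, ← pow_add, ← pow_add]
      congr 2
      ring

theorem pow_red {a : G} (ha : a ^ p = 1) (n : ℕ) : a ^ n = a ^ (n % p) := by
  conv_lhs => rw [← Nat.div_add_mod n p, pow_add, pow_mul, ha, one_pow, one_mul]

theorem pow_eq_one_of {a : G} (ha : a ^ p = 1) {n : ℕ} (h : p ∣ n) : a ^ n = 1 := by
  obtain ⟨m, rfl⟩ := h
  rw [pow_mul, ha, one_pow]

theorem Rel.pow (h : Rel p a b w) (i j k n : ℕ) : (a ^ i * b ^ j * w ^ k) ^ n =
    a ^ (n * i) * b ^ (n * j) * w ^ (n * k + j * i * n.choose 2) := by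
  induction n with
  | zero => simp
  | succ n ih =>
    have e1 : n * i + i = (n + 1) * i := by ring
    have e2 : n * j + j = (n + 1) * j := by ring
    have e3 : n * k + j * i * n.choose 2 + k + n * j * i = (n + 1) * k + j * i * (n + 1).choose 2 := by
      rw [Nat.choose_succ_succ' n 1, Nat.choose_one_right]
      ring
    rw [pow_succ, ih, h.mul, e1, e2, e3]

/-- the group generated by `a`, `b`, `w` -/
def gp (h : Rel p a b w) [hp : Fact p.Prime] : Subgroup G where
  carrier := {g | ∃ i j k : ℕ, g = a ^ i * b ^ j * w ^ k}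
  one_mem' := ⟨0, 0, 0, by simp⟩
  mul_mem' := by
    rintro _ _ ⟨i, j, k, rfl⟩ ⟨i', j', k', rfl⟩
    exact ⟨_, _, _, h.mul i j k i' j' k'⟩
  inv_mem' := by
    rintro _ ⟨i, j, k, rfl⟩
    obtain ⟨q, hq⟩ : ∃ q, p = q + 1 := ⟨p - 1, by have := hp.out.pos; omega⟩
    refine ⟨q * i, q * j, q * k + j * i, ?_⟩
    rw [inv_eq_iff_mul_eq_one, h.mul, pow_eq_one_of h.ap ⟨i, by rw [hq]; ring⟩,
      pow_eq_one_of h.bp ⟨j, by rw [hq]; ring⟩,
      pow_eq_one_of h.wp ⟨k + j * i, by rw [hq]; ring⟩, one_mul, one_mul]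

variable [hp : Fact p.Prime]

theorem mem_gp (h : Rel p a b w) {g : G} : g ∈ gp h ↔ ∃ i j k : ℕ, g = a ^ i * b ^ j * w ^ k := Iff.rfl

theorem a_mem (h : Rel p a b w) : a ∈ gp h := ⟨1, 0, 0, by simp⟩
theorem b_mem (h : Rel p a b w) : b ∈ gp h := ⟨0, 1, 0, by simp⟩
theorem w_mem (h : Rel p a b w) : w ∈ gp h := ⟨0, 0, 1, by simp⟩

theorem gp_le (h : Rel p a b w) {H : Subgroup G} (ha : a ∈ H) (hb : b ∈ H) (hw : w ∈ H) : gp h ≤ H := by
  rintro _ ⟨i, j, k, rfl⟩
  exact mul_mem (mul_mem (pow_mem ha i) (pow_mem hb j)) (pow_mem hw k)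

theorem pow_p (h : Rel p a b w) (h2 : p ≠ 2) {g : G} (hg : g ∈ gp h) : g ^ p = 1 := by
  obtain ⟨i, j, k, rfl⟩ := hg
  have h3 : p ∣ p.choose 2 := hp.out.dvd_choose_self (by norm_num) (by
    have := hp.out.two_le
    omega)
  rw [h.pow, pow_eq_one_of h.ap ⟨i, rfl⟩, pow_eq_one_of h.bp ⟨j, rfl⟩,
    pow_eq_one_of h.wp ((Dvd.intro k rfl).add (h3.mul_left _)), one_mul, one_mul]

theorem isPGroup (h : Rel p a b w) : IsPGroup p (gp h) := by
  rintro ⟨g, hg⟩
  obtain ⟨i, j, k, rfl⟩ := hg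
  refine ⟨2, Subtype.ext ?_⟩
  change (a ^ i * b ^ j * w ^ k) ^ p ^ 2 = 1
  rw [pow_two, pow_mul, h.pow, pow_eq_one_of h.ap ⟨i, rfl⟩, pow_eq_one_of h.bp ⟨j, rfl⟩, one_mul,
    one_mul, ← pow_mul, pow_eq_one_of h.wp (dvd_mul_left _ _)]

omit hp in
theorem not_comm (h : Rel p a b w) : b * a ≠ a * b := by
  intro e
  apply h.w1
  have h1 := h.ba
  rw [e] at h1
  exact (mul_eq_left.1 h1.symm)

/-- the parametrisation -/
def par (h : Rel p a b w) : Fin p × Fin p × Fin p → gp h := fun x =>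
  ⟨a ^ (x.1 : ℕ) * b ^ (x.2.1 : ℕ) * w ^ (x.2.2 : ℕ), _, _, _, rfl⟩

theorem par_surjective (h : Rel p a b w) : Function.Surjective (par h) := by
  rintro ⟨_, i, j, k, rfl⟩
  refine ⟨(⟨i % p, Nat.mod_lt _ hp.out.pos⟩, ⟨j % p, Nat.mod_lt _ hp.out.pos⟩,
    ⟨k % p, Nat.mod_lt _ hp.out.pos⟩), Subtype.ext ?_⟩
  change a ^ (i % p) * b ^ (j % p) * w ^ (k % p) = _
  rw [← pow_red h.ap, ← pow_red h.bp, ← pow_red h.wp]

theorem finite_gp (h : Rel p a b w) : Finite (gp h) := Finite.of_surjective _ (par_surjective h)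

theorem card_le (h : Rel p a b w) : Nat.card (gp h) ≤ p ^ 3 := by
  have h1 := Nat.card_le_card_of_surjective _ (par_surjective h)
  rw [Nat.card_prod, Nat.card_prod, Nat.card_fin] at h1
  refine h1.trans (le_of_eq ?_)
  ring

theorem card (h : Rel p a b w) : Nat.card (gp h) = p ^ 3 := by
  have := finite_gp h
  obtain ⟨n, hn⟩ := IsPGroup.iff_card.1 (isPGroup h)
  have h1 := card_le h
  have h2 : n ≤ 3 := by
    rw [hn] at h1
    exact (Nat.pow_le_pow_iff_right hp.out.one_lt).1 h1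
  have hcomm : ∀ (f : ∀ x y : gp h, x * y = y * x), False := fun f =>
    not_comm h (congrArg Subtype.val (f ⟨b, b_mem h⟩ ⟨a, a_mem h⟩))
  interval_cases n
  · exfalso
    apply hcomm
    intro x y
    have h3 : Subsingleton (gp h) := (Nat.card_eq_one_iff_unique.1 (hn.trans (pow_zero p))).1
    exact Subsingleton.elim _ _
  · exfalso
    have h3 : IsCyclic (gp h) := isCyclic_of_prime_card (p := p) (hn.trans (pow_one p))
    exact hcomm fun x y => (IsCyclic.isMulCommutative (α := gp h)).is_comm.comm x y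
  · exfalso
    exact hcomm fun x y => (IsPGroup.isMulCommutative_of_card_eq_prime_sq (p := p) hn).is_comm.comm x y
  · exact hn

/-- a nonabelian group of order `p ^ 3` in which all `p`-th powers are trivial -/
theorem extraspecial {R : Type*} [Group R] (hc : Nat.card R = p ^ 3) (hne : ∃ x y : R, x * y ≠ y * x)
    (h3 : ∀ x : R, x ^ p = 1) : Cfsg.IsExtraspecial p R ∧ Monoid.exponent R = p := by
  have : Finite R := Nat.finite_of_card_ne_zero (by rw [hc]; exact (pow_pos hp.out.pos 3).ne')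
  refine ⟨Cfsg.Agent.J2Type.ExtCube.isExtraspecial_of_card_cube hc hne, ?_⟩
  have h1 : Monoid.exponent R ∣ p := Monoid.exponent_dvd_of_forall_pow_eq_one h3
  rcases (Nat.dvd_prime hp.out).1 h1 with h2 | h2
  · exfalso
    obtain ⟨x, y, hxy⟩ := hne
    have h4 : ∀ g : R, g = 1 := fun g => by
      have h5 := Monoid.pow_exponent_eq_one g
      rwa [h2, pow_one] at h5
    exact hxy (by rw [h4 x, h4 y])
  · exact h2

theorem isExtraspecial_gp (h : Rel p a b w) (h2 : p ≠ 2) :
    Cfsg.IsExtraspecial p (gp h) ∧ Monoid.exponent (gp h) = p :=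
  extraspecial (card h) ⟨⟨b, b_mem h⟩, ⟨a, a_mem h⟩, fun e => not_comm h (congrArg Subtype.val e)⟩
    (fun x => Subtype.ext (pow_p h h2 x.2))

theorem w_comm (h : Rel p a b w) {x : G} (hx : x ∈ gp h) : w * x = x * w := by
  obtain ⟨i, j, k, rfl⟩ := hx
  have c1 : Commute w (a ^ i) := (show Commute w a from h.aw.symm).pow_right i
  have c2 : Commute w (b ^ j) := (show Commute w b from h.bw.symm).pow_right j
  have c3 : Commute w (w ^ k) := (Commute.refl w).pow_right k
  exact ((c1.mul_right c2).mul_right c3).eq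

theorem orderOf_w (h : Rel p a b w) : orderOf w = p := orderOf_eq_prime h.wp h.w1

/-- the centre -/
theorem center_le (h : Rel p a b w) {g : G} (hg : g ∈ gp h) (hc : ∀ x ∈ gp h, g * x = x * g) : g ∈ zpowers w := by
  have := finite_gp h
  have h1 := (Cfsg.Agent.J2Type.ExtCube.isExtraspecial_of_card_cube (P := gp h) (p := p) (card h)
    ⟨⟨b, b_mem h⟩, ⟨a, a_mem h⟩, fun e => not_comm h (congrArg Subtype.val e)⟩).2
  have hw : (⟨w, w_mem h⟩ : gp h) ∈ center (gp h) := by
    rw [mem_center_iff]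
    rintro ⟨x, hx⟩
    exact Subtype.ext (w_comm h hx).symm
  have h2 : zpowers (⟨w, w_mem h⟩ : gp h) = center (gp h) := by
    apply eq_of_le_of_card_ge
    · rw [zpowers_le]; exact hw
    · rw [h1, Nat.card_zpowers]
      have h3 : orderOf (⟨w, w_mem h⟩ : gp h) = p := by
        rw [Subgroup.orderOf_mk]; exact orderOf_w h
      rw [h3]
  have h3 : (⟨g, hg⟩ : gp h) ∈ center (gp h) := by
    rw [mem_center_iff]
    rintro ⟨x, hx⟩
    exact Subtype.ext (hc x hx).symm
  rw [← h2] at h3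
  obtain ⟨n, hn⟩ := mem_zpowers_iff.1 h3
  exact mem_zpowers_iff.2 ⟨n, congrArg Subtype.val hn⟩

/-- an element normalizing `gp h`, from the images of the generators -/
theorem mem_normalizer (h : Rel p a b w) [Finite G] {g : G} (ha : g * a * g⁻¹ ∈ gp h)
    (hb : g * b * g⁻¹ ∈ gp h) (hw : g * w * g⁻¹ ∈ gp h) : g ∈ normalizer (gp h : Set G) := by
  have h1 : gp h ≤ (gp h).comap (MulAut.conj g).toMonoidHom := gp_le h ha hb hw
  have h2 : (gp h).map (MulAut.conj g).toMonoidHom = gp h := by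
    apply Subgroup.eq_of_le_of_card_ge
    · exact map_le_iff_le_comap.2 h1
    · exact (Nat.card_congr ((gp h).equivMapOfInjective (MulAut.conj g).toMonoidHom
        (MulAut.conj g).injective).toEquiv).le
  rw [mem_normalizer_iff]
  intro x
  constructor
  · intro hx
    exact h1 hx
  · intro hx
    rw [← h2] at hx
    obtain ⟨y, hy, hyx⟩ := hx
    have h5 : g * y * g⁻¹ = g * x * g⁻¹ := hyx
    have h6 : y = x := mul_left_cancel (mul_right_cancel h5)
    rwa [← h6]

end Cfsg.Agent.H859.Heis
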