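import Cfsg.Agent.H858.M24Norm
import Cfsg.Agent.CpAutJ4.Eleven

/-!
# The normalizer of a subgroup of order 11 of `M24`
-/

set_option autoImplicit false

open Cfsg
open scoped Pointwise

namespace Cfsg.Agent.H859.M24Eleven

open Cfsg.Agent.J4.M24Hom Cfsg.Agent.J4.Packed Cfsg.Agent.J4.Nodes
open Cfsg.Agent.SporadicA.GolayBase (fin mem_fin idx_lt pt_idx)
open Cfsg.Agent.SporadicStructure.M24Frame
open Cfsg.Agent.H858.NormC Cfsg.Agent.H858.M24Norm

/-- the word of `f` -/
def wf : List ℕ := [0, 1, 0, 1, 0, 1, 0, 2, 0, 2, 0, 2]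

/-- an element of order 11 -/
def f : M24 := wordG wf

theorem f_pow : f ^ 11 = 1 := by
  have h : wordG (wf ++ (wf ++ (wf ++ (wf ++ (wf ++ (wf ++ (wf ++ (wf ++ (wf ++ (wf ++ wf)))))))))) =
      wordG [] := wordG_eq (by decide +kernel)
  simp only [wordG_append] at h
  change f * (f * (f * (f * (f * (f * (f * (f * (f * (f * f))))))))) = 1 at h
  simpa [pow_succ, mul_assoc] using h

theorem f_ne : f ≠ 1 := one_of_word 0 23 (by decide +kernel) (by decide +kernel)

theorem orderOf_f : orderOf f = 11 := by
  have : Fact (Nat.Prime 11) := ⟨by norm_num⟩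
  exact orderOf_eq_prime f_pow f_ne

/-- the moved points of `f` -/
def Af : Finset GolayPt := Finset.univ.filter fun x => (f : Equiv.Perm GolayPt) x ≠ x
/-- the fixed points of `f` -/
def Ef : Finset GolayPt := Finset.univ.filter fun x => (f : Equiv.Perm GolayPt) x = x

theorem card_Af : Af.card = 22 := by decide +kernel
theorem card_Ef : Ef.card = 2 := by decide +kernel

/-- a member of the centralizer of `f` fixing two suitable points is trivial -/
theorem inj_f (d : M24) (h : d * f = f * d) (h0 : (d : Equiv.Perm GolayPt) (pt 0) = pt 0)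
    (h1 : (d : Equiv.Perm GolayPt) (pt 1) = pt 1) : d = 1 := by
  have e0 : (f : Equiv.Perm GolayPt) (pt 0) = pt 23 := by decide +kernel
  have e1 : (f : Equiv.Perm GolayPt) (pt 23) = pt 11 := by decide +kernel
  have e2 : (f : Equiv.Perm GolayPt) (pt 11) = pt 7 := by decide +kernel
  have e3 : (f : Equiv.Perm GolayPt) (pt 7) = pt 20 := by decide +kernel
  have e4 : (f : Equiv.Perm GolayPt) (pt 20) = pt 22 := by decide +kernel
  have e5 : (f : Equiv.Perm GolayPt) (pt 22) = pt 18 := by decide +kernel
  have e6 : (f : Equiv.Perm GolayPt) (pt 18) = pt 14 := by decide +kernel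
  have e7 : (f : Equiv.Perm GolayPt) (pt 14) = pt 16 := by decide +kernel
  have e8 : (f : Equiv.Perm GolayPt) (pt 16) = pt 8 := by decide +kernel
  have e9 : (f : Equiv.Perm GolayPt) (pt 8) = pt 4 := by decide +kernel
  have h23 : (d : Equiv.Perm GolayPt) (pt 23) = pt 23 := by rw [← e0, apply_comm h, h0]
  have h11 : (d : Equiv.Perm GolayPt) (pt 11) = pt 11 := by rw [← e1, apply_comm h, h23]
  have h7 : (d : Equiv.Perm GolayPt) (pt 7) = pt 7 := by rw [← e2, apply_comm h, h11]
  have h20 : (d : Equiv.Perm GolayPt) (pt 20) = pt 20 := by rw [← e3, apply_comm h, h7]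
  have h22 : (d : Equiv.Perm GolayPt) (pt 22) = pt 22 := by rw [← e4, apply_comm h, h20]
  have h18 : (d : Equiv.Perm GolayPt) (pt 18) = pt 18 := by rw [← e5, apply_comm h, h22]
  have h14 : (d : Equiv.Perm GolayPt) (pt 14) = pt 14 := by rw [← e6, apply_comm h, h18]
  have h16 : (d : Equiv.Perm GolayPt) (pt 16) = pt 16 := by rw [← e7, apply_comm h, h14]
  have h8 : (d : Equiv.Perm GolayPt) (pt 8) = pt 8 := by rw [← e8, apply_comm h, h16]
  have h4 : (d : Equiv.Perm GolayPt) (pt 4) = pt 4 := by rw [← e9, apply_comm h, h8]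
  have hO : fin 69395 ∈ octads := fin_mem_octads_of_isOct (by decide +kernel)
  let s : Finset GolayPt := {pt 0, pt 1, pt 4, pt 8, pt 11, pt 16}
  have hs : s ⊆ fin 69395 := by decide +kernel
  have hs6 : s.card = 6 := by decide +kernel
  have hfix : ∀ z ∈ s, (d : Equiv.Perm GolayPt) z = z := by
    intro z hz
    simp only [s, Finset.mem_insert, Finset.mem_singleton] at hz
    rcases hz with rfl | rfl | rfl | rfl | rfl | rfl
    · exact h0
    · exact h1
    · exact h4
    · exact h8
    · exact h11
    · exact h16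
  apply Subtype.ext
  exact eq_one_of_fix_frame d.2 hO hs hs6.ge hfix (p := pt 23) (by decide +kernel) h23

theorem card_cent_f_le : Nat.card (Subgroup.centralizer {f}) ≤ 44 := by
  have h := card_cent_le (g := f) (a := pt 0) (b := pt 1) Af Ef
    (fun x hx => Finset.mem_filter.2 ⟨Finset.mem_univ _, hx⟩)
    (fun x hx => Finset.mem_filter.2 ⟨Finset.mem_univ _, hx⟩) (by decide +kernel)
    (by decide +kernel) inj_f
  rwa [card_Af, card_Ef] at h

/-- the subgroup of order 11 -/
def F : Subgroup M24 := Subgroup.zpowers f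

theorem card_F : Nat.card F = 11 := by
  rw [F, Nat.card_zpowers, orderOf_f]

theorem f_mem : f ∈ Subgroup.normalizer (F : Set M24) :=
  Subgroup.le_normalizer (Subgroup.mem_zpowers f)

theorem isPGroup_F : IsPGroup 11 F := isPGroup_of_card card_F

theorem not_dvd_F : ¬ 11 ∣ F.index := not_dvd_index card_F (by rw [card_M24]; norm_num)

theorem centralizer_F : Subgroup.centralizer (F : Set M24) = Subgroup.centralizer {f} :=
  centralizer_zpowers f

/-- the centralizer of an element of order 11 has odd order -/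
theorem not_two_dvd {g : M24} (hg : orderOf g = 11) :
    ¬ 2 ∣ Nat.card (Subgroup.centralizer {g} : Subgroup M24) := by
  intro h
  have : Fact (Nat.Prime 2) := ⟨Nat.prime_two⟩
  obtain ⟨x, hx⟩ := exists_prime_orderOf_dvd_card' 2 h
  have h0 : orderOf (g : Equiv.Perm GolayPt) = 11 := by rw [Subgroup.orderOf_coe, hg]
  have h2 : (x : M24) ^ 2 = 1 := by
    have h3 := pow_orderOf_eq_one x
    rw [hx] at h3
    exact congrArg Subtype.val h3
  rw [pow_two] at h2
  have h3 : (x : M24) * g = g * x := (Subgroup.mem_centralizer_iff.1 x.2 g rfl).symm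
  have h1 : ((x : M24) : Equiv.Perm GolayPt) = 1 :=
    Cfsg.Agent.CpAutJ4.Eleven.eq_one g.2 h0 (x : M24).2 (congrArg Subtype.val h2)
      (congrArg Subtype.val h3)
  have h2 : x = 1 := Subtype.ext (Subtype.ext h1)
  rw [h2, orderOf_one] at hx
  exact absurd hx (by norm_num)

theorem eleven_dvd : 11 ∣ Nat.card (Subgroup.centralizer {f} : Subgroup M24) :=
  orderOf_f ▸ orderOf_dvd_of_mem (Subgroup.mem_centralizer_singleton_iff.2 rfl)

/-- **the normalizer of a subgroup of order 11 of `M24` has order 110** and the centralizer has order 11 -/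
theorem card_both : Nat.card (Subgroup.centralizer {f} : Subgroup M24) = 11 ∧
    Nat.card (Subgroup.normalizer (F : Set M24)) = 110 := by
  have : Fact (Nat.Prime 11) := ⟨by norm_num⟩
  obtain ⟨j, hj, h1⟩ := exists_card_normalizer_prime (by norm_num) card_F
  rw [centralizer_F] at h1
  have h2 := card_cent_f_le
  have h2' := not_two_dvd orderOf_f
  have h2'' := eleven_dvd
  set c := Nat.card (Subgroup.centralizer {f} : Subgroup M24) with hc
  set N := Nat.card (Subgroup.normalizer (F : Set M24)) with hN
  have h5 := index_normalizer_modEq isPGroup_F not_dvd_F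
  have h6 := (Subgroup.normalizer (F : Set M24)).card_mul_index
  rw [card_M24, ← hN] at h6
  set i := (Subgroup.normalizer (F : Set M24)).index with hi
  unfold Nat.ModEq at h5
  have hc0 : 0 < c := Nat.card_pos
  have hj' : j ∈ Nat.divisors 10 := Nat.mem_divisors.2 ⟨hj, by norm_num⟩
  have hj'' : j = 1 ∨ j = 2 ∨ j = 5 ∨ j = 10 := by
    have : Nat.divisors 10 = {1, 2, 5, 10} := by decide
    rw [this] at hj'
    simpa using hj'
  have hc' : c = 11 ∨ c = 33 := by omega
  rcases hc' with hc' | hc' <;> rcases hj'' with rfl | rfl | rfl | rfl <;> rw [hc'] at h1 <;>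
    norm_num at h1 <;> rw [h1] at h6 <;> first
    | (exact ⟨hc', h1⟩)
    | (exfalso; omega)

theorem card_centralizer_f : Nat.card (Subgroup.centralizer {f} : Subgroup M24) = 11 := card_both.1
theorem card_normalizer_F : Nat.card (Subgroup.normalizer (F : Set M24)) = 110 := card_both.2

end Cfsg.Agent.H859.M24Eleven
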