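import Mathlib

/-!
# Transport of a Sylow subgroup along an isomorphism (helper859)
-/

set_option autoImplicit false

namespace Cfsg.Agent.H859.Transfer

variable {K G : Type*} [Group K] [Group G]

/-- every Sylow subgroup of `G` is the image of a given Sylow subgroup of `K` under some isomorphism -/
theorem exists_equiv [Finite G] (e : K ≃* G) {p : ℕ} [Fact p.Prime] {V : Subgroup K}
    (hV : IsPGroup p V) (hi : ¬ p ∣ V.index) (U : Sylow p G) :
    ∃ e' : K ≃* G, V.map e'.toMonoidHom = (U : Subgroup G) := by
  have h1 : IsPGroup p (V.map e.toMonoidHom) := hV.map _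
  have h2 : ¬ p ∣ (V.map e.toMonoidHom).index := by
    have h3 : (V.map e.toMonoidHom).index = V.index := Subgroup.index_map_equiv V e
    rwa [h3]
  obtain ⟨x, hx⟩ := MulAction.exists_smul_eq G (h1.toSylow h2) U
  refine ⟨e.trans (MulAut.conj x), ?_⟩
  have h3 := congrArg (fun S : Sylow p G => (S : Subgroup G)) hx
  have h4 : (V.map e.toMonoidHom).map (MulAut.conj x).toMonoidHom = (U : Subgroup G) := h3
  rw [Subgroup.map_map] at h4
  exact h4

theorem card_map (e : K ≃* G) (H : Subgroup K) : Nat.card (H.map e.toMonoidHom) = Nat.card H :=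
  (Nat.card_congr (H.equivMapOfInjective e.toMonoidHom e.injective).toEquiv).symm

theorem map_normalizer (e : K ≃* G) (V : Subgroup K) :
    Subgroup.normalizer ((V.map e.toMonoidHom : Subgroup G) : Set G) =
      (Subgroup.normalizer (V : Set K)).map e.toMonoidHom :=
  (Subgroup.map_equiv_normalizer_eq V e).symm

theorem map_centralizer (e : K ≃* G) (V : Subgroup K) :
    Subgroup.centralizer ((V.map e.toMonoidHom : Subgroup G) : Set G) =
      (Subgroup.centralizer (V : Set K)).map e.toMonoidHom := by
  ext y
  constructor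
  · intro hy
    rw [Subgroup.mem_centralizer_iff] at hy
    refine ⟨e.symm y, ?_, by simp⟩
    rw [SetLike.mem_coe, Subgroup.mem_centralizer_iff]
    intro v hv
    have h := hy (e v) ⟨v, hv, rfl⟩
    apply e.injective
    rw [map_mul, map_mul, MulEquiv.apply_symm_apply]
    exact h
  · rintro ⟨z, hz, rfl⟩
    rw [SetLike.mem_coe, Subgroup.mem_centralizer_iff] at hz
    rw [Subgroup.mem_centralizer_iff]
    rintro _ ⟨v, hv, rfl⟩
    have h := hz v hv
    show e v * e z = e z * e v
    rw [← map_mul, h, map_mul]

/-- transfer of "self-centralizing with normalizer of order `n`" -/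
theorem self_centralizing [Finite G] (e : K ≃* G) {p : ℕ} [Fact p.Prime] {V : Subgroup K}
    (hV : IsPGroup p V) (hi : ¬ p ∣ V.index) {n : ℕ}
    (h1 : Subgroup.centralizer (V : Set K) = V)
    (h2 : Nat.card (Subgroup.normalizer (V : Set K)) = n) (U : Sylow p G) :
    Subgroup.centralizer ((U : Subgroup G) : Set G) = (U : Subgroup G) ∧
      Nat.card ↥(Subgroup.normalizer ((U : Subgroup G) : Set G)) = n := by
  obtain ⟨e', he⟩ := exists_equiv e hV hi U
  rw [← he, map_centralizer, map_normalizer, card_map, h1, h2]
  exact ⟨rfl, rfl⟩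

end Cfsg.Agent.H859.Transfer
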