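import Cfsg.Agent.H859.PGLWords

/-!
# The traces of an element of order 43 of the fourth Janko group in the 112-dimensional representation (helper859)

The element `y` of order 43 is not conjugate to `y ^ 6`.
-/

set_option autoImplicit false

namespace Cfsg.Agent.H859.Trace43

open Cfsg.Agent.Lib.F2MatGroup Cfsg.Agent.Lib.F2Mat Cfsg.Agent.J4.Rep112

/-- the trace of a packed `112 × 112` matrix -/
def trB (A : ℕ) (k : ℕ) : Bool :=
  Nat.rec false (fun i ih => xor ih (A.testBit (112 * i + i))) k

theorem trB_succ (A k : ℕ) : trB A (k + 1) = xor (trB A k) (A.testBit (112 * k + k)) := rfl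

theorem trB_eq (A k : ℕ) : bz (trB A k) = ∑ i ∈ Finset.range k, bz (A.testBit (112 * i + i)) := by
  induction k with
  | zero => rfl
  | succ k ih => rw [trB_succ, bz_xor, ih, Finset.sum_range_succ]

theorem trace_eq {g : GL (Fin 112) (ZMod 2)} {A : ℕ} (h : Codes 112 g A) :
    Matrix.trace (g : Matrix (Fin 112) (Fin 112) (ZMod 2)) = bz (trB A 112) := by
  rw [trB_eq, h, Matrix.trace, Finset.sum_range]
  rfl

/-- the traces of two words are different -/
theorem trace_ne {ws : List (List ℕ)} {v w : List ℕ}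
    (hr : run 112 ws codes (fun L => xor (trB (evW 112 L v) 112) (trB (evW 112 L w) 112)) = true) :
    Matrix.trace (rho (evG (runG ws gens) v) : Matrix (Fin 112) (Fin 112) (ZMod 2)) ≠
      Matrix.trace (rho (evG (runG ws gens) w) : Matrix (Fin 112) (Fin 112) (ZMod 2)) := by
  obtain ⟨L', h1, h2⟩ := run_sound codes_gens hr
  rw [runG_map] at h1
  have h3 := codes_evW h1 v
  have h4 := codes_evW h1 w
  rw [evG_map] at h3 h4
  rw [trace_eq h3, trace_eq h4]
  intro h5
  have h6 := bz_inj h5
  change xor (trB (evW 112 L' v) 112) (trB (evW 112 L' w) 112) = true at h2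
  rw [h6, Bool.xor_self] at h2
  exact absurd h2 (by decide)

/-- conjugate elements have the same trace -/
theorem trace_conj {a b : Cfsg.Spor.J4} (h : IsConj a b) :
    Matrix.trace (rho a : Matrix (Fin 112) (Fin 112) (ZMod 2)) =
      Matrix.trace (rho b : Matrix (Fin 112) (Fin 112) (ZMod 2)) := by
  obtain ⟨g, rfl⟩ := isConj_iff.1 h
  rw [map_mul, map_mul, map_inv, Units.val_mul, Units.val_mul]
  exact (Matrix.trace_units_conj (rho g) _).symm

/-- the word of `y` -/
def ws : List (List ℕ) := [[0, 1, 0, 1, 3, 1, 0, 2]]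

theorem run_ws : run 112 ws codes (fun L => xor (trB (evW 112 L [0]) 112)
    (trB (evW 112 L [0, 0, 0, 0, 0, 0]) 112)) = true := by decide +kernel

theorem check_ws : check 112 codes ws [(List.replicate 43 0, [])] [([0], [])] = true := by
  decide +kernel

/-- an element of order 43 -/
noncomputable def y : Cfsg.Spor.J4 := getG (runG ws gens) 0

instance fact43 : Fact (Nat.Prime 43) := ⟨by norm_num⟩

theorem orderOf_y : orderOf y = 43 := by
  obtain ⟨h1, h2⟩ := PGLWords.check_J4 check_ws
  have h3 := h1 (List.replicate 43 0, []) (by simp)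
  have h4 := h2 ([0], []) (by simp)
  rw [Cfsg.Agent.J4.Lower.evG_replicate, evG_nil] at h3
  rw [Cfsg.Agent.J4.Lower.evG_single, evG_nil] at h4
  exact orderOf_eq_prime h3 h4

/-- **`y` and `y ^ 6` are not conjugate** -/
theorem not_isConj : ¬ IsConj y (y ^ 6) := by
  intro h
  have h1 := trace_ne run_ws
  have h2 : evG (runG ws gens) [0] = y := Cfsg.Agent.J4.Lower.evG_single _ _
  have h3 : evG (runG ws gens) [0, 0, 0, 0, 0, 0] = y ^ 6 :=
    Cfsg.Agent.J4.Lower.evG_replicate _ 0 6
  rw [h2, h3] at h1
  exact h1 (trace_conj h)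

end Cfsg.Agent.H859.Trace43
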