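import Cfsg.Agent.H859.BigPrime
import Cfsg.Agent.H859.PrimeSub
import Cfsg.Agent.H859.ClassEleven
import Cfsg.Agent.H859.Trace43

/-!
# The centralizers of the subgroups of prime order at least 23 of the fourth Janko group (helper859)
-/

set_option autoImplicit false

open Cfsg

namespace Cfsg.Agent.H859.BigCent

open Subgroup
open Cfsg.Agent.H858.FixJ4 (card_J4)
open Cfsg.Agent.H858.NormC

instance finite_J4 : Finite Cfsg.Spor.J4 := Cfsg.Agent.H858.FixJ4.facts.1

theorem sq_not_dvd {p : ℕ} (hp : p = 5 ∨ p = 7 ∨ p = 23 ∨ p = 29 ∨ p = 31 ∨ p = 37 ∨ p = 43) :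
    ¬ p * p ∣ Nat.card Cfsg.Spor.J4 := by
  rw [card_J4]
  rcases hp with rfl | rfl | rfl | rfl | rfl | rfl | rfl <;> norm_num

theorem fact5 : Fact (Nat.Prime 5) := ⟨by norm_num⟩
theorem fact7 : Fact (Nat.Prime 7) := ⟨by norm_num⟩

/-- the order of the normalizer of a subgroup of order 7 -/
theorem card_normalizer_seven {P : Subgroup Cfsg.Spor.J4} (hP : Nat.card P = 7) :
    Nat.card (normalizer (P : Set Cfsg.Spor.J4)) = 2520 := by
  have := fact7
  rw [← Cfsg.Agent.H858.Norm57.card_normalizer_S7]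
  exact PrimeSub.card_normalizer_eq hP Cfsg.Agent.H858.Norm57.card_S7 (sq_not_dvd (by simp))

/-- the order of the normalizer of a subgroup of order 5 -/
theorem card_normalizer_five {P : Subgroup Cfsg.Spor.J4} (hP : Nat.card P = 5) :
    Nat.card (normalizer (P : Set Cfsg.Spor.J4)) = 26880 := by
  have := fact5
  have := fact7
  obtain ⟨j, h1, h2⟩ := exists_card_normalizer_prime (by norm_num) Cfsg.Agent.H858.Norm57.card_S7
  rw [Cfsg.Agent.H858.Norm57.card_normalizer_S7] at h2
  have h3 : 5 ∣ Nat.card (centralizer (Cfsg.Agent.H858.Norm57.S7 : Set Cfsg.Spor.J4)) := by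
    have h4 : 5 ∣ j * Nat.card (centralizer (Cfsg.Agent.H858.Norm57.S7 : Set Cfsg.Spor.J4)) :=
      ⟨504, by rw [← h2]⟩
    rcases (Nat.Prime.dvd_mul (by norm_num)).1 h4 with h5 | h5
    · exfalso
      have h6 := h5.trans h1
      norm_num at h6
    · exact h5
  have h4 := PrimeSub.dvd_symm Cfsg.Agent.H858.Norm57.card_S7 Cfsg.Agent.H858.Norm57.card_Q5
    (sq_not_dvd (by simp)) h3
  have h5 := Cfsg.Agent.H858.Norm57.card_normalizer_Q5_of
    (h4.trans (card_dvd_of_le (Subgroup.centralizer_le_normalizer _)))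
  rw [← h5]
  exact PrimeSub.card_normalizer_eq hP Cfsg.Agent.H858.Norm57.card_Q5 (sq_not_dvd (by simp))

section

variable {p : ℕ} [hp : Fact p.Prime] (h23 : 23 ≤ p) {P : Subgroup Cfsg.Spor.J4} (hP : Nat.card P = p)

include h23 hP

omit h23 in
theorem exists_gen : ∃ y, orderOf y = p ∧ P = zpowers y := by
  have hc : IsCyclic P := isCyclic_of_prime_card hP
  obtain ⟨g, hg⟩ := hc.exists_generator
  refine ⟨g, ?_, ?_⟩
  · rw [Subgroup.orderOf_coe, orderOf_eq_card_of_forall_mem_zpowers hg, hP]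
  · ext x
    constructor
    · intro hx
      obtain ⟨n, hn⟩ := mem_zpowers_iff.1 (hg ⟨x, hx⟩)
      exact mem_zpowers_iff.2 ⟨n, congrArg Subtype.val hn⟩
    · intro hx
      obtain ⟨n, hn⟩ := mem_zpowers_iff.1 hx
      rw [← hn]
      exact P.zpow_mem g.2 n

omit h23 in
theorem exists_comm {q : ℕ} [Fact q.Prime] (h : q ∣ Nat.card (centralizer (P : Set Cfsg.Spor.J4))) :
    ∃ y u : Cfsg.Spor.J4, orderOf y = p ∧ orderOf u = q ∧ y * u = u * y ∧ P = zpowers y := by
  obtain ⟨y, hy, hPy⟩ := exists_gen hP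
  obtain ⟨s, hs⟩ := exists_prime_orderOf_dvd_card' q h
  refine ⟨y, s, hy, by rw [Subgroup.orderOf_coe, hs], ?_, hPy⟩
  exact mem_centralizer_iff.1 s.2 y (hPy ▸ mem_zpowers y)

theorem not_two : ¬ 2 ∣ Nat.card (centralizer (P : Set Cfsg.Spor.J4)) := by
  intro h
  have : Fact (Nat.Prime 2) := ⟨Nat.prime_two⟩
  obtain ⟨y, u, h1, h2, h3, -⟩ := exists_comm hP h
  exact BigPrime.not_comm_two hp.out h23 h1 h2 h3

theorem not_three : ¬ 3 ∣ Nat.card (centralizer (P : Set Cfsg.Spor.J4)) := by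
  intro h
  obtain ⟨y, u, h1, h2, h3, -⟩ := exists_comm hP h
  exact BigPrime.not_comm_three hp.out h23 h1 h2 h3

theorem not_five : ¬ 5 ∣ Nat.card (centralizer (P : Set Cfsg.Spor.J4)) := by
  intro h
  have := fact5
  obtain ⟨y, u, h1, h2, h3, -⟩ := exists_comm hP h
  have h4 : y ∈ normalizer ((zpowers u : Subgroup Cfsg.Spor.J4) : Set Cfsg.Spor.J4) := by
    apply Subgroup.centralizer_le_normalizer
    rw [centralizer_zpowers, mem_centralizer_singleton_iff]
    exact h3
  have h5 := orderOf_dvd_of_mem h4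
  rw [card_normalizer_five (by rw [Nat.card_zpowers, h2]), h1,
    show 26880 = 2 ^ 8 * (3 * (5 * 7)) by norm_num] at h5
  have key : ∀ q : ℕ, q.Prime → q ≤ 11 → ∀ n, p ∣ q ^ n → False := by
    intro q hq hq11 n h
    have h4 := (Nat.prime_dvd_prime_iff_eq hp.out hq).1 (hp.out.dvd_of_dvd_pow h)
    omega
  rcases (hp.out.dvd_mul).1 h5 with h2 | h2
  · exact key 2 (by norm_num) (by norm_num) _ h2
  · rcases (hp.out.dvd_mul).1 h2 with h2 | h2
    · exact key 3 (by norm_num) (by norm_num) 1 (by rwa [pow_one])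
    · rcases (hp.out.dvd_mul).1 h2 with h2 | h2
      · exact key 5 (by norm_num) (by norm_num) 1 (by rwa [pow_one])
      · exact key 7 (by norm_num) (by norm_num) 1 (by rwa [pow_one])

theorem not_seven : ¬ 7 ∣ Nat.card (centralizer (P : Set Cfsg.Spor.J4)) := by
  intro h
  have := fact7
  obtain ⟨y, u, h1, h2, h3, -⟩ := exists_comm hP h
  have h4 : y ∈ normalizer ((zpowers u : Subgroup Cfsg.Spor.J4) : Set Cfsg.Spor.J4) := by
    apply Subgroup.centralizer_le_normalizer
    rw [centralizer_zpowers, mem_centralizer_singleton_iff]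
    exact h3
  have h5 := orderOf_dvd_of_mem h4
  rw [card_normalizer_seven (by rw [Nat.card_zpowers, h2]), h1,
    show 2520 = 2 ^ 3 * (3 ^ 2 * (5 * 7)) by norm_num] at h5
  have key : ∀ q : ℕ, q.Prime → q ≤ 11 → ∀ n, p ∣ q ^ n → False := by
    intro q hq hq11 n h
    have h4 := (Nat.prime_dvd_prime_iff_eq hp.out hq).1 (hp.out.dvd_of_dvd_pow h)
    omega
  rcases (hp.out.dvd_mul).1 h5 with h2 | h2
  · exact key 2 (by norm_num) (by norm_num) _ h2
  · rcases (hp.out.dvd_mul).1 h2 with h2 | h2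
    · exact key 3 (by norm_num) (by norm_num) _ h2
    · rcases (hp.out.dvd_mul).1 h2 with h2 | h2
      · exact key 5 (by norm_num) (by norm_num) 1 (by rwa [pow_one])
      · exact key 7 (by norm_num) (by norm_num) 1 (by rwa [pow_one])

/-- elements of order 11 of the class of `x` do not commute with elements of order `p` -/
theorem not_isConj_x {r : Cfsg.Spor.J4} (hr : IsConj r SylEleven.x)
    (h : r ∈ centralizer (P : Set Cfsg.Spor.J4)) : False := by
  obtain ⟨y, hy, hPy⟩ := exists_gen hP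
  have h1 : Nat.card (centralizer {r} : Subgroup Cfsg.Spor.J4) = 242 := by
    rw [ClassEleven.card_centralizer_conj hr, SylEleven.card_centralizer_x_eq]
  have h2 : y ∈ centralizer {r} := by
    rw [mem_centralizer_singleton_iff]
    exact mem_centralizer_iff.1 h y (hPy ▸ mem_zpowers y)
  have h3 := orderOf_dvd_of_mem h2
  rw [hy, h1, show 242 = 2 * (11 * 11) by norm_num] at h3
  have key : ∀ q : ℕ, q.Prime → q ≤ 11 → p ∣ q → False := by
    intro q hq hq11 h
    have h4 := (Nat.prime_dvd_prime_iff_eq hp.out hq).1 h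
    omega
  rcases (hp.out.dvd_mul).1 h3 with h2 | h2
  · exact key 2 (by norm_num) (by norm_num) h2
  · rcases (hp.out.dvd_mul).1 h2 with h2 | h2
    · exact key 11 (by norm_num) (by norm_num) h2
    · exact key 11 (by norm_num) (by norm_num) h2

/-- no group of order 121 in the centralizer -/
theorem not_sq_eleven : ¬ 11 ^ 2 ∣ Nat.card (centralizer (P : Set Cfsg.Spor.J4)) := by
  intro h
  have : Fact (Nat.Prime 11) := ⟨by norm_num⟩
  obtain ⟨R, hR⟩ := Sylow.exists_subgroup_card_pow_prime 11 h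
  let R' : Subgroup Cfsg.Spor.J4 := R.map (centralizer (P : Set Cfsg.Spor.J4)).subtype
  have hR' : Nat.card R' = 11 ^ 2 := by
    rw [← hR]
    exact (Nat.card_congr (R.equivMapOfInjective _ (subtype_injective _)).toEquiv).symm
  have hR'p : IsPGroup 11 R' := IsPGroup.of_card hR'
  obtain ⟨Q, hQ⟩ := hR'p.exists_le_sylow
  obtain ⟨g, hg⟩ := MulAction.exists_smul_eq Cfsg.Spor.J4 Q
    (SylEleven.isPGroup_U.toSylow SylEleven.not_dvd_U)
  have hg' : (Q : Subgroup Cfsg.Spor.J4).map (MulAut.conj g).toMonoidHom = NU.U :=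
    congrArg (fun S : Sylow 11 Cfsg.Spor.J4 => (S : Subgroup Cfsg.Spor.J4)) hg
  have h1 : R'.map (MulAut.conj g).toMonoidHom ≤ NU.U := by
    rw [← hg']
    exact map_mono hQ
  have h2 : ¬ R'.map (MulAut.conj g).toMonoidHom ≤ zpowers NU.c := by
    intro h3
    have h4 := card_dvd_of_le h3
    rw [Nat.card_zpowers, ClassEleven.orderOf_c] at h4
    have h5 : Nat.card (R'.map (MulAut.conj g).toMonoidHom) = 11 ^ 2 := by
      rw [← hR']
      exact (Nat.card_congr (R'.equivMapOfInjective (MulAut.conj g).toMonoidHom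
        (MulAut.conj g).injective).toEquiv).symm
    rw [h5] at h4
    norm_num at h4
  obtain ⟨_, ⟨r, hr, rfl⟩, hrc⟩ := Set.not_subset.1 h2
  have h3 : g * r * g⁻¹ ∈ SylEleven.orb SylEleven.N SylEleven.x := by
    rw [SylEleven.orb_eq]
    exact ⟨h1 ⟨r, hr, rfl⟩, hrc⟩
  obtain ⟨n, -, hn⟩ := h3
  have h4 : IsConj r SylEleven.x := by
    refine (isConj_iff.2 ⟨g, rfl⟩ : IsConj r (g * r * g⁻¹)).trans ?_
    exact isConj_comm.1 (isConj_iff.2 ⟨n, hn.symm⟩)
  obtain ⟨r', hr', hrr⟩ := hr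
  have h5 : r ∈ centralizer (P : Set Cfsg.Spor.J4) := by rw [← hrr]; exact r'.2
  exact not_isConj_x h23 hP h4 h5

/-- the Frattini argument -/
theorem ten_dvd (hpp : ¬ p * p ∣ Nat.card Cfsg.Spor.J4)
    (h : 11 ∣ Nat.card (centralizer (P : Set Cfsg.Spor.J4))) :
    10 ∣ Nat.card (normalizer (P : Set Cfsg.Spor.J4)) := by
  have : Fact (Nat.Prime 11) := ⟨by norm_num⟩
  obtain ⟨y, u, hy, hu, hyu, hPy⟩ := exists_comm hP h
  have huC : u ∈ centralizer (P : Set Cfsg.Spor.J4) := by
    rw [hPy, centralizer_zpowers, mem_centralizer_singleton_iff]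
    exact hyu.symm
  rcases ClassEleven.isConj_or hu with h1 | h1
  · exact (not_isConj_x h23 hP h1 huC).elim
  · obtain ⟨g, hg⟩ := isConj_iff.1 h1
    have hy1 := BigPrime.comm_conj hyu hg
    set y1 := g * y * g⁻¹ with hy1def
    have hoy1 : orderOf y1 = p := by rw [hy1def, BigPrime.orderOf_conj, hy]
    let P1 : Subgroup Cfsg.Spor.J4 := zpowers y1
    have hP1 : Nat.card P1 = p := by rw [Nat.card_zpowers, hoy1]
    let D : Subgroup Cfsg.Spor.J4 := centralizer {NU.c}
    have hP1D : P1 ≤ D := by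
      rw [zpowers_le, mem_centralizer_singleton_iff]
      exact hy1
    have hkc : NU.k * NU.c * NU.k⁻¹ = NU.c ^ 6 := by
      have h2 := NU.k_c
      rwa [pow_zero, pow_zero, one_mul, one_mul] at h2
    have hc12 : (NU.c ^ 6) ^ 2 = NU.c := by
      have h11 : NU.c ^ 11 = 1 := NU.rel.wp
      calc (NU.c ^ 6) ^ 2 = NU.c ^ 11 * NU.c := by group
        _ = NU.c := by rw [h11, one_mul]
    have hP2D : P1.map (MulAut.conj NU.k).toMonoidHom ≤ D := by
      rw [MonoidHom.map_zpowers, zpowers_le, mem_centralizer_singleton_iff]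
      show NU.k * y1 * NU.k⁻¹ * NU.c = NU.c * (NU.k * y1 * NU.k⁻¹)
      have h2 := BigPrime.comm_conj hy1 hkc
      have h3 : Commute (NU.k * y1 * NU.k⁻¹) (NU.c ^ 6) := h2
      have h4 := h3.pow_right 2
      rw [hc12] at h4
      exact h4.eq
    have hP2 : Nat.card (P1.map (MulAut.conj NU.k).toMonoidHom) = p := by
      rw [← hP1]
      exact (Nat.card_congr (P1.equivMapOfInjective (MulAut.conj NU.k).toMonoidHom
        (MulAut.conj NU.k).injective).toEquiv).symm
    obtain ⟨m, hm, hmP⟩ := Cfsg.Agent.H858.Fix.exists_conj hP2D hP1D (isPGroup_of_card hP2)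
      (isPGroup_of_card hP1) (not_dvd_index hP2 hpp) (not_dvd_index hP1 hpp)
    rw [Subgroup.map_map] at hmP
    have hn : m * NU.k ∈ normalizer (P1 : Set Cfsg.Spor.J4) := by
      have h2 : P1.map (MulAut.conj (m * NU.k)).toMonoidHom = P1 := by
        have e : (MulAut.conj (m * NU.k)).toMonoidHom =
            (MulAut.conj m).toMonoidHom.comp (MulAut.conj NU.k).toMonoidHom := by
          apply MonoidHom.ext
          intro z
          show m * NU.k * z * (m * NU.k)⁻¹ = m * (NU.k * z * NU.k⁻¹) * m⁻¹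
          group
        rw [e]
        exact hmP
      rw [mem_normalizer_iff]
      intro z
      constructor
      · intro hz
        rw [← h2]
        exact ⟨z, hz, rfl⟩
      · intro hz
        rw [← h2] at hz
        obtain ⟨w, hw, hwz⟩ := hz
        have h5 : (m * NU.k) * w * (m * NU.k)⁻¹ = (m * NU.k) * z * (m * NU.k)⁻¹ := hwz
        have h6 : w = z := mul_left_cancel (mul_right_cancel h5)
        rwa [← h6]
    have hnc : (m * NU.k) * NU.c * (m * NU.k)⁻¹ = NU.c ^ 6 := by
      have hm' : Commute m (NU.c ^ 6) :=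
        (show Commute m NU.c from mem_centralizer_singleton_iff.1 hm).pow_right 6
      calc (m * NU.k) * NU.c * (m * NU.k)⁻¹ = m * (NU.k * NU.c * NU.k⁻¹) * m⁻¹ := by group
        _ = m * NU.c ^ 6 * m⁻¹ := by rw [hkc]
        _ = NU.c ^ 6 := by rw [hm'.eq, mul_inv_cancel_right]
    set n := m * NU.k with hndef
    have hpow : ∀ i : ℕ, n ^ i * NU.c * (n ^ i)⁻¹ = NU.c ^ (6 ^ i) := by
      intro i
      induction i with
      | zero => simp
      | succ i ih =>
        have h1 : n ^ (i + 1) * NU.c * (n ^ (i + 1))⁻¹ = n * (n ^ i * NU.c * (n ^ i)⁻¹) * n⁻¹ := by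
          rw [pow_succ']; group
        rw [h1, ih, ← conj_pow, hnc, ← pow_mul, ← pow_succ']
    have h10 : 10 ∣ orderOf n := by
      have h2 := hpow (orderOf n)
      rw [pow_orderOf_eq_one, one_mul, inv_one, mul_one] at h2
      have h3 : NU.c ^ 1 = NU.c ^ (6 ^ orderOf n) := by rw [pow_one]; exact h2
      rw [pow_inj_mod, ClassEleven.orderOf_c] at h3
      have h4 : 6 ^ orderOf n % 11 = 6 ^ (orderOf n % 10) % 11 := by
        conv_lhs => rw [← Nat.div_add_mod (orderOf n) 10, pow_add, pow_mul, Nat.mul_mod, Nat.pow_mod]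
        norm_num
      rw [h4] at h3
      have h5 : orderOf n % 10 < 10 := Nat.mod_lt _ (by norm_num)
      have key : ∀ i < 10, 1 % 11 = 6 ^ i % 11 → i = 0 := by decide
      exact Nat.dvd_of_mod_eq_zero (key _ h5 h3)
    have h2 : Nat.card (normalizer (P1 : Set Cfsg.Spor.J4)) =
        Nat.card (normalizer (P : Set Cfsg.Spor.J4)) := PrimeSub.card_normalizer_eq hP1 hP hpp
    rw [← h2]
    exact h10.trans (orderOf_dvd_of_mem hn)

end

end Cfsg.Agent.H859.BigCent
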