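import Cfsg.Agent.H858.Norm57
import Cfsg.Agent.H859.M24Eleven

/-!
# The centralizer in `J4` of an element of order 11 of `M24`
-/

set_option autoImplicit false

open Cfsg

namespace Cfsg.Agent.H859.CentEleven

open Cfsg.Agent.J4.Rep112 Cfsg.Agent.J4.Pres Cfsg.Agent.J4.M24Hom
open Cfsg.Agent.J4.Beta Cfsg.Agent.J4.Invol Cfsg.Agent.J4.Classes
open Cfsg.Agent.H858.Fix Cfsg.Agent.H858.FixJ4 Cfsg.Agent.H858.VK Cfsg.Agent.H858.NormC
open Cfsg.Agent.H859.M24Eleven (f wf F)

section general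

variable {G : Type*} [Group G] [Finite G]

/-- a subgroup normalizing `P ≤ M` permutes the cosets of `M` fixed by `P` -/
theorem card_le_fix_mul {M P C : Subgroup G} (hPM : P ≤ M)
    (hC : C ≤ Subgroup.normalizer (P : Set G)) :
    Nat.card C ≤ (fixSet M P).ncard * Nat.card (C ⊓ M : Subgroup G) := by
  have horb : (MulAction.orbit C (QuotientGroup.mk 1 : G ⧸ M)) ⊆ fixSet M P := by
    rintro _ ⟨n, rfl⟩
    show (QuotientGroup.mk ((n : G) * 1) : G ⧸ M) ∈ _
    rw [mk_mem_fixSet]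
    intro q hq
    rw [mul_one]
    apply hPM
    have := (Subgroup.mem_normalizer_iff.1 ((Subgroup.normalizer (P : Set G)).inv_mem (hC n.2)) q).1 hq
    rwa [inv_inv] at this
  have hst : Nat.card (MulAction.stabilizer C (QuotientGroup.mk 1 : G ⧸ M)) =
      Nat.card (C ⊓ M : Subgroup G) := by
    have e1 : MulAction.stabilizer C (QuotientGroup.mk 1 : G ⧸ M) = M.subgroupOf C := by
      ext n
      rw [MulAction.mem_stabilizer_iff, Subgroup.mem_subgroupOf]
      show (QuotientGroup.mk ((n : G) * 1) : G ⧸ M) = _ ↔ _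
      rw [QuotientGroup.eq]
      have e : ((n : G) * 1)⁻¹ * 1 = (n : G)⁻¹ := by group
      rw [e, inv_mem_iff]
    rw [e1]
    have e2 : (M.subgroupOf C).map C.subtype = C ⊓ M := by
      rw [Subgroup.subgroupOf_map_subtype, inf_comm]
    rw [← e2]
    exact Nat.card_congr ((M.subgroupOf C).equivMapOfInjective C.subtype
      C.subtype_injective).toEquiv
  have h := Nat.card_congr (MulAction.orbitProdStabilizerEquivGroup C (QuotientGroup.mk 1 : G ⧸ M))
  rw [Nat.card_prod, hst, Nat.card_coe_set_eq] at h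
  rw [← h]
  exact Nat.mul_le_mul_right _ (Set.ncard_le_ncard horb (Set.toFinite _))

/-- the centralizer in `V K` of an element of `K` -/
theorem card_centralizer_inf_le {K : Type*} [Group K] {φ : K →* G} (hφ : Function.Injective φ)
    {V : Subgroup G} (hn : φ.range ≤ Subgroup.normalizer (V : Set G))
    (hVK : ∀ x ∈ V, x ∈ φ.range → x = 1)
    {B : Subgroup G} (hB : ∀ x, x ∈ B ↔ ∃ e ∈ V, ∃ k, x = e * φ k) (f : K) :
    Nat.card (Subgroup.centralizer {φ f} ⊓ B : Subgroup G) ≤
      Nat.card (V ⊓ Subgroup.centralizer {φ f} : Subgroup G) *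
        Nat.card (Subgroup.centralizer {f} : Subgroup K) := by
  have hK : Finite K := Finite.of_injective φ hφ
  rw [← Nat.card_prod]
  have hex : ∀ x : (Subgroup.centralizer {φ f} ⊓ B : Subgroup G), ∃ y :
      (V ⊓ Subgroup.centralizer {φ f} : Subgroup G) × (Subgroup.centralizer {f} : Subgroup K),
      (x : G) = (y.1 : G) * φ y.2 := by
    rintro ⟨x, hx⟩
    obtain ⟨hx1, hx2⟩ := Subgroup.mem_inf.1 hx
    obtain ⟨e, he, k, rfl⟩ := (hB x).1 hx2
    have hc : ∀ p ∈ Subgroup.zpowers f, e * φ k * φ p * (e * φ k)⁻¹ = φ p := by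
      rintro _ ⟨n, rfl⟩
      have h1 : Commute (e * φ k) (φ f) := (Subgroup.mem_centralizer_iff.1 hx1 _ rfl).symm
      rw [mul_inv_eq_iff_eq_mul]
      show _ * φ (f ^ n) = φ (f ^ n) * _
      rw [map_zpow]
      exact (h1.zpow_right n).eq
    have h2 := map_normalizer_aux hφ hn hVK (P := Subgroup.zpowers f) he (k := k)
      (fun p hp => by rw [hc p hp]; exact ⟨p, hp, rfl⟩) f (Subgroup.mem_zpowers f)
    have h3 := hc f (Subgroup.mem_zpowers f)
    have h4 : φ (k * f * k⁻¹) = φ f := by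
      rw [← h3]
      have h5 : e * φ k * φ f * (e * φ k)⁻¹ = e * φ (k * f * k⁻¹) * e⁻¹ := by
        rw [map_mul, map_mul, map_inv]; group
      rw [h5, h2.2, mul_inv_cancel_right]
    have h5 : k * f * k⁻¹ = f := hφ h4
    have h6 := h2.2
    rw [h5] at h6
    exact ⟨(⟨e, Subgroup.mem_inf.2 ⟨he, Subgroup.mem_centralizer_singleton_iff.2 h6⟩⟩,
      ⟨k, Subgroup.mem_centralizer_singleton_iff.2 (mul_inv_eq_iff_eq_mul.1 h5)⟩), rfl⟩
  choose g hg using hex
  apply Nat.card_le_card_of_injective g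
  intro x y hxy
  apply Subtype.ext
  rw [hg, hg, hxy]

end general

/-- the matrix of `f` -/
def mf : List ℕ := [1468, 1873, 375, 1435, 882, 1678, 481, 327, 145, 873, 1247]

theorem isMat_f : IsMat (psi f) mf := by
  have h : mat wf = mf := by decide +kernel
  rw [← h]
  exact isMat_word _

theorem card_EJ_cent_f :
    Nat.card (EJ ⊓ Subgroup.centralizer {phi f} : Subgroup Cfsg.Spor.J4) = 2 :=
  card_EJ_cent _ mf isMat_f 2 (by decide +kernel) (by decide +kernel)

theorem card_CB_le :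
    Nat.card (Subgroup.centralizer {phi f} ⊓ B : Subgroup Cfsg.Spor.J4) ≤ 22 := by
  have h := card_centralizer_inf_le phi_injective phi_norm inf_eq_one (B := B) (fun x => mem_B) f
  rw [card_EJ_cent_f, M24Eleven.card_centralizer_f] at h
  exact h

/-- bounds for the prime 11 -/
def b11 (i : ℕ) : ℕ := [1, 0, 0, 0, 0, 0, 0, 0, 0, 0, 0, 0, 0, 0, 0, 0, 0, 0, 0, 10].getD i 0

theorem b11_ok : ∀ i < 20, ∀ k < 111, (i ≠ 0 ∧ 11 ∣ k ∧ k ∣ so i ∧ k ∣ 110 ∧
    110 / k % 11 = Cfsg.Agent.J4.Upper1.ib i % 11) → 110 / k ≤ b11 i := by decide +kernel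

theorem fix_le_eleven : (fixSet B (F.map phi)).ncard ≤ 11 := by
  have : Fact (Nat.Prime 11) := ⟨by norm_num⟩
  have h3 := Cfsg.Agent.H858.Norm57.fix_le (p := 11) (N := 110) M24Eleven.card_F
    (by rw [Cfsg.Agent.H858.M24Norm.card_M24]; norm_num)
    M24Eleven.card_normalizer_F (b := b11) rfl (fun i hi k hk => b11_ok i hi k (by omega))
  have h4 : ∑ i ∈ Finset.range 20, b11 i = 11 := by decide +kernel
  rw [h4] at h3
  exact h3

/-- **the centralizer of an element of order 11 of `M24` has order at most 242** -/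
theorem card_centralizer_le :
    Nat.card (Subgroup.centralizer {phi f} : Subgroup Cfsg.Spor.J4) ≤ 242 := by
  have h1 : (F.map phi : Subgroup Cfsg.Spor.J4) = Subgroup.zpowers (phi f) := by
    unfold M24Eleven.F
    rw [MonoidHom.map_zpowers]
  have h2 : F.map phi ≤ B := by
    rintro _ ⟨m, _, rfl⟩
    exact Cfsg.Agent.J4.Upper.range_le ⟨m, rfl⟩
  have h3 : Subgroup.centralizer {phi f} ≤
      Subgroup.normalizer ((F.map phi : Subgroup Cfsg.Spor.J4) : Set Cfsg.Spor.J4) := by
    rw [h1, ← centralizer_zpowers]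
    exact Subgroup.centralizer_le_normalizer _
  calc _ ≤ _ := card_le_fix_mul h2 h3
    _ ≤ 11 * 22 := Nat.mul_le_mul fix_le_eleven card_CB_le
    _ = 242 := by norm_num

theorem orderOf_phi_f : orderOf (phi f) = 11 := by
  rw [orderOf_injective phi phi_injective, M24Eleven.orderOf_f]

end Cfsg.Agent.H859.CentEleven
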