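import Cfsg.Agent.H859.NU
import Cfsg.Agent.H859.CentEleven

/-!
# The Sylow 11-subgroups of the fourth Janko group (helper859)
-/

set_option autoImplicit false

open Cfsg

namespace Cfsg.Agent.H859.SylEleven

open Cfsg.Agent.J4.Pres Cfsg.Agent.H858.FixJ4 Cfsg.Agent.H858.VK Cfsg.Agent.H858.NormC
open Cfsg.Agent.H859.NU (U)

section general

variable {G : Type*} [Group G]

/-- the set of conjugates of `x` under `N` -/
def orb (N : Subgroup G) (x : G) : Set G := {y | ∃ n ∈ N, y = n * x * n⁻¹}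

theorem card_orb [Finite G] (N : Subgroup G) (x : G) :
    Nat.card N = (orb N x).ncard * Nat.card (Subgroup.centralizer {x} ⊓ N : Subgroup G) := by
  rw [← Nat.card_coe_set_eq, ← Nat.card_prod]
  symm
  have h : ∀ o : orb N x, ∃ n ∈ N, (o : G) = n * x * n⁻¹ := fun o => o.2
  choose r hr1 hr2 using h
  have hc : ∀ c : (Subgroup.centralizer {x} ⊓ N : Subgroup G), (c : G) * x * (c : G)⁻¹ = x := by
    intro c
    rw [Subgroup.mem_centralizer_singleton_iff.1 (Subgroup.mem_inf.1 c.2).1, mul_inv_cancel_right]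
  refine Nat.card_congr (Equiv.ofBijective (fun z : orb N x × (Subgroup.centralizer {x} ⊓ N :
    Subgroup G) => (⟨r z.1 * z.2, N.mul_mem (hr1 _) (Subgroup.mem_inf.1 z.2.2).2⟩ : N)) ⟨?_, ?_⟩)
  · rintro ⟨o, c⟩ ⟨o', c'⟩ h
    have h1 : r o * c = r o' * c' := congrArg Subtype.val h
    have key : ∀ (o : orb N x) (c : (Subgroup.centralizer {x} ⊓ N : Subgroup G)),
        (r o * c) * x * (r o * c)⁻¹ = o := by
      intro o c
      calc (r o * c) * x * (r o * c)⁻¹ = r o * (c * x * (c : G)⁻¹) * (r o)⁻¹ := by group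
        _ = o := by rw [hc, ← hr2]
    have h2 : o = o' := Subtype.ext (by rw [← key o c, ← key o' c', h1])
    subst h2
    have h3 : c = c' := Subtype.ext (mul_left_cancel h1)
    rw [h3]
  · rintro ⟨n, hn⟩
    let o : orb N x := ⟨n * x * n⁻¹, n, hn, rfl⟩
    have h1 : (o : G) = r o * x * (r o)⁻¹ := hr2 o
    have h2 : n * x * n⁻¹ = r o * x * (r o)⁻¹ := h1
    refine ⟨⟨o, ⟨(r o)⁻¹ * n, Subgroup.mem_inf.2 ⟨?_, N.mul_mem (N.inv_mem (hr1 o)) hn⟩⟩⟩, ?_⟩
    · rw [Subgroup.mem_centralizer_singleton_iff]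
      calc (r o)⁻¹ * n * x = (r o)⁻¹ * (n * x * n⁻¹) * n := by group
        _ = x * ((r o)⁻¹ * n) := by rw [h2]; group
    · apply Subtype.ext
      show r o * ((r o)⁻¹ * n) = n
      group

/-- a conjugate of a `p`-element in a Sylow subgroup -/
theorem exists_conj_mem [Finite G] {p : ℕ} [Fact p.Prime] {P : Subgroup G} (hP : IsPGroup p P)
    (hi : ¬ p ∣ P.index) {g : G} (hg : ∃ n, g ^ p ^ n = 1) : ∃ x : G, x * g * x⁻¹ ∈ P := by
  obtain ⟨n, hn⟩ := hg
  have h1 : IsPGroup p (Subgroup.zpowers g) := by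
    rintro ⟨_, m, rfl⟩
    refine ⟨n, Subtype.ext ?_⟩
    change (g ^ m) ^ p ^ n = 1
    rw [← zpow_natCast, ← zpow_mul, mul_comm, zpow_mul, zpow_natCast, hn, one_zpow]
  obtain ⟨Q, hQ⟩ := h1.exists_le_sylow
  obtain ⟨x, hx⟩ := MulAction.exists_smul_eq G Q (hP.toSylow hi)
  refine ⟨x, ?_⟩
  have h2 : (Q : Subgroup G).map (MulAut.conj x).toMonoidHom = P := by
    have := congrArg (fun S : Sylow p G => (S : Subgroup G)) hx
    exact this
  rw [← h2]
  exact ⟨g, hQ (Subgroup.mem_zpowers g), rfl⟩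

end general

instance finite_J4 : Finite Cfsg.Spor.J4 := facts.1

theorem isPGroup_U : IsPGroup 11 U := Heis.isPGroup NU.rel

theorem not_dvd_U : ¬ 11 ∣ U.index := by
  intro h
  have h1 := U.card_mul_index
  rw [NU.card_U, card_J4] at h1
  omega

theorem c_mem : NU.c ∈ U := Heis.w_mem NU.rel

/-- a conjugate of `phi f` in `U` -/
theorem exists_x : ∃ x ∈ U, ∃ g : Cfsg.Spor.J4, x = g * phi M24Eleven.f * g⁻¹ := by
  obtain ⟨g, hg⟩ := exists_conj_mem isPGroup_U not_dvd_U (g := phi M24Eleven.f)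
    ⟨1, by rw [pow_one, ← CentEleven.orderOf_phi_f, pow_orderOf_eq_one]⟩
  exact ⟨_, hg, g, rfl⟩

/-- an element of `U` -/
noncomputable def x : Cfsg.Spor.J4 := exists_x.choose

theorem x_mem : x ∈ U := exists_x.choose_spec.1

theorem card_centralizer_x : Nat.card (Subgroup.centralizer {x} : Subgroup Cfsg.Spor.J4) ≤ 242 := by
  obtain ⟨g, hg⟩ := exists_x.choose_spec.2
  refine le_trans (le_of_eq ?_) CentEleven.card_centralizer_le
  have h1 : x = g * phi M24Eleven.f * g⁻¹ := hg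
  have h2 : (Subgroup.centralizer {phi M24Eleven.f}).map (MulAut.conj g).toMonoidHom =
      Subgroup.centralizer {x} := by
    ext y
    constructor
    · rintro ⟨z, hz, rfl⟩
      have hz' := Subgroup.mem_centralizer_singleton_iff.1 hz
      rw [Subgroup.mem_centralizer_singleton_iff]
      show g * z * g⁻¹ * x = x * (g * z * g⁻¹)
      rw [h1]
      calc g * z * g⁻¹ * (g * phi M24Eleven.f * g⁻¹) = g * (z * phi M24Eleven.f) * g⁻¹ := by group
        _ = g * phi M24Eleven.f * g⁻¹ * (g * z * g⁻¹) := by rw [hz']; group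
    · intro hy
      have hy' := Subgroup.mem_centralizer_singleton_iff.1 hy
      rw [h1] at hy'
      refine ⟨g⁻¹ * y * g, Subgroup.mem_centralizer_singleton_iff.2 ?_, ?_⟩
      · calc g⁻¹ * y * g * phi M24Eleven.f = g⁻¹ * (y * (g * phi M24Eleven.f * g⁻¹)) * g := by group
          _ = phi M24Eleven.f * (g⁻¹ * y * g) := by rw [hy']; group
      · show g * (g⁻¹ * y * g) * g⁻¹ = y
        group
  rw [← h2]
  exact (Nat.card_congr ((Subgroup.centralizer {phi M24Eleven.f}).equivMapOfInjective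
    (MulAut.conj g).toMonoidHom (MulAut.conj g).injective).toEquiv).symm

theorem U_le_centralizer {z : Cfsg.Spor.J4} (hz : z ∈ Subgroup.zpowers NU.c) :
    U ≤ Subgroup.centralizer {z} := by
  obtain ⟨n, rfl⟩ := hz
  intro y hy
  rw [Subgroup.mem_centralizer_singleton_iff]
  have h : Commute NU.c y := Heis.w_comm NU.rel hy
  exact (h.zpow_left n).eq.symm

theorem x_notMem : x ∉ Subgroup.zpowers NU.c := by
  intro h
  have h1 := Nat.card_le_card_of_injective _ (Subgroup.inclusion_injective (U_le_centralizer h))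
  have h2 := card_centralizer_x
  rw [NU.card_U] at h1
  omega

/-- the normalizer -/
noncomputable def N : Subgroup Cfsg.Spor.J4 := Subgroup.normalizer (U : Set Cfsg.Spor.J4)

/-- the noncentral elements of `U` -/
def S : Set Cfsg.Spor.J4 := {y | y ∈ U ∧ y ∉ Subgroup.zpowers NU.c}

theorem zpowers_le_U : Subgroup.zpowers NU.c ≤ U := by
  rw [Subgroup.zpowers_le]; exact c_mem

theorem ncard_S : S.ncard = 1320 := by
  have h1 : S = (U : Set Cfsg.Spor.J4) \ (Subgroup.zpowers NU.c : Set Cfsg.Spor.J4) := rfl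
  rw [h1, Set.ncard_sdiff zpowers_le_U (Set.toFinite _), ← Nat.card_coe_set_eq,
    ← Nat.card_coe_set_eq]
  have h2 : Nat.card ((U : Set Cfsg.Spor.J4) : Type) = 11 ^ 3 := NU.card_U
  have h3 : Nat.card ((Subgroup.zpowers NU.c : Set Cfsg.Spor.J4) : Type) = 11 := by
    have h4 := Nat.card_zpowers NU.c
    rw [Heis.orderOf_w NU.rel] at h4
    exact h4
  rw [h2, h3]
  norm_num

/-- an element of `N` normalizes `⟨c⟩` -/
theorem conj_c {n : Cfsg.Spor.J4} (hn : n ∈ N) {z : Cfsg.Spor.J4}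
    (hz : z ∈ Subgroup.zpowers NU.c) : n * z * n⁻¹ ∈ Subgroup.zpowers NU.c := by
  apply Heis.center_le NU.rel
  · exact (Subgroup.mem_normalizer_iff.1 hn z).1 (zpowers_le_U hz)
  · intro y hy
    have h1 : n⁻¹ * y * n ∈ U := by
      have h2 := (Subgroup.mem_normalizer_iff.1 (N.inv_mem hn) y).1 hy
      rwa [inv_inv] at h2
    have h2 := Subgroup.mem_centralizer_singleton_iff.1 (U_le_centralizer hz h1)
    calc n * z * n⁻¹ * y = n * (z * (n⁻¹ * y * n)) * n⁻¹ := by group
      _ = n * (n⁻¹ * y * n * z) * n⁻¹ := by rw [h2]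
      _ = y * (n * z * n⁻¹) := by group

theorem orb_subset : orb N x ⊆ S := by
  rintro _ ⟨n, hn, rfl⟩
  refine ⟨(Subgroup.mem_normalizer_iff.1 hn x).1 x_mem, fun h => x_notMem ?_⟩
  have h1 := conj_c (N.inv_mem hn) h
  have e : n⁻¹ * (n * x * n⁻¹) * n⁻¹⁻¹ = x := by group
  rwa [e] at h1

theorem A_mem : NU.A ∈ N := by
  apply Heis.mem_normalizer NU.rel
  · rw [NU.A_a]; exact ⟨_, _, _, rfl⟩
  · rw [NU.A_b]; exact ⟨_, _, _, rfl⟩
  · rw [NU.A_c]; exact ⟨_, _, _, rfl⟩

theorem B_mem : NU.B ∈ N := by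
  apply Heis.mem_normalizer NU.rel
  · rw [NU.B_a]; exact ⟨_, _, _, rfl⟩
  · rw [NU.B_b]; exact ⟨_, _, _, rfl⟩
  · rw [NU.B_c]; exact ⟨_, _, _, rfl⟩

theorem hom_range_le : NU.hom.range ≤ N := NU.hom_range_le A_mem B_mem

theorem card_GL : Nat.card (GL (Fin 2) (ZMod 3)) = 48 := by
  rw [Matrix.card_GL_field, Fin.prod_univ_two, ZMod.card]
  norm_num

theorem card_range : Nat.card NU.hom.range = 48 := by
  rw [← card_GL]
  exact (Nat.card_congr (MonoidHom.ofInjective NU.hom_injective).toEquiv).symm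

/-- **the normalizer of a Sylow 11-subgroup has order `240 * 11 ^ 3`** -/
theorem card_N : Nat.card N = 2 ^ 4 * 3 * 5 * 11 ^ 3 := by
  have h1 := card_orb N x
  have h2 : (orb N x).ncard ≤ 1320 := ncard_S ▸ Set.ncard_le_ncard orb_subset (Set.toFinite _)
  have h3 : Nat.card (Subgroup.centralizer {x} ⊓ N : Subgroup Cfsg.Spor.J4) ≤ 242 :=
    (Nat.card_le_card_of_injective _ (Subgroup.inclusion_injective inf_le_left)).trans
      card_centralizer_x
  have h4 : Nat.card N ≤ 1320 * 242 := h1 ▸ Nat.mul_le_mul h2 h3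
  have h5 : 48 ∣ Nat.card N := card_range ▸ Subgroup.card_dvd_of_le hom_range_le
  have h6 : 1331 ∣ Nat.card N := by
    have := Subgroup.card_dvd_of_le (Subgroup.le_normalizer (H := U))
    rw [NU.card_U] at this
    exact this
  have h7 : 48 * 1331 ∣ Nat.card N := Nat.Coprime.mul_dvd_of_dvd_of_dvd (by norm_num) h5 h6
  have h8 := index_normalizer_modEq isPGroup_U not_dvd_U
  have h9 := N.card_mul_index
  rw [card_J4] at h9
  have h10 : (Subgroup.normalizer (U : Set Cfsg.Spor.J4)).index = N.index := rfl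
  rw [h10] at h8
  unfold Nat.ModEq at h8
  obtain ⟨k, hk⟩ := h7
  have h11 : k ≤ 5 := by omega
  have h12 : 0 < Nat.card N := Nat.card_pos
  rw [hk] at h9 h4 h12 ⊢
  interval_cases k <;> omega

theorem card_centralizer_inf : 242 ≤ Nat.card (Subgroup.centralizer {x} ⊓ N : Subgroup Cfsg.Spor.J4) := by
  have h1 := card_orb N x
  rw [card_N] at h1
  have h2 : (orb N x).ncard ≤ 1320 := ncard_S ▸ Set.ncard_le_ncard orb_subset (Set.toFinite _)
  by_contra hcon
  have h3 : (orb N x).ncard * Nat.card (Subgroup.centralizer {x} ⊓ N : Subgroup Cfsg.Spor.J4) ≤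
    1320 * 241 := Nat.mul_le_mul h2 (by omega)
  omega

/-- **the noncentral elements of `U` are conjugate in `N`** -/
theorem orb_eq : orb N x = S := by
  have h1 := card_orb N x
  rw [card_N] at h1
  apply Set.eq_of_subset_of_ncard_le orb_subset _ (Set.toFinite _)
  rw [ncard_S]
  have h3 : Nat.card (Subgroup.centralizer {x} ⊓ N : Subgroup Cfsg.Spor.J4) ≤ 242 :=
    (Nat.card_le_card_of_injective _ (Subgroup.inclusion_injective inf_le_left)).trans
      card_centralizer_x
  by_contra hcon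
  have h4 : (orb N x).ncard * Nat.card (Subgroup.centralizer {x} ⊓ N : Subgroup Cfsg.Spor.J4) ≤
    1319 * 242 := Nat.mul_le_mul (by omega) h3
  omega

theorem card_centralizer_x_eq : Nat.card (Subgroup.centralizer {x} : Subgroup Cfsg.Spor.J4) = 242 := by
  apply le_antisymm card_centralizer_x
  exact card_centralizer_inf.trans
    (Nat.card_le_card_of_injective _ (Subgroup.inclusion_injective inf_le_left))

end Cfsg.Agent.H859.SylEleven
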