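import Mathlib

/-!
# Words for the normalizer of a Sylow 11-subgroup of the fourth Janko group (helper859)

Straight line program in `x, y, y⁻¹, t` computing generators `a, b, c` of a Sylow 11-subgroup, elements `A, B`
generating a complement `GL₂(3)` (with its 48 elements), and an element `k` with `k c k⁻¹ = c ^ 6`.
-/

set_option autoImplicit false

namespace Cfsg.Agent.H859.NUData

abbrev ia : ℕ := 206
abbrev ib : ℕ := 181
abbrev ic : ℕ := 180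
abbrev iA : ℕ := 78
abbrev iB : ℕ := 48
abbrev ik : ℕ := 49

/-- the program (newest element first) -/
def slp : List (List ℕ) := [
  [0, 2, 0, 2, 0, 2, 0, 1, 0, 1, 0, 1],
  [2, 1, 2, 1, 3, 1, 3, 1, 3, 1, 3, 4, 2, 1, 2, 1, 2, 1, 2, 1, 3, 1],
  [0, 0, 0],
  [3, 5, 3, 0, 5, 3, 5, 3, 5, 3, 5, 3, 4, 3, 0, 3, 5, 3, 4, 3, 4, 3, 4, 3, 4, 3, 4],
  [0, 5, 4, 5, 7, 4, 6, 7, 4, 0, 4, 7, 5, 4, 7, 6, 4, 6],
  [0, 0, 0, 0],
  [2, 7, 6, 2, 6, 8],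
  [0, 0, 0, 0, 0, 0],
  [2, 0],
  [5, 11, 12, 11, 12, 10, 9, 5, 9, 11, 12, 10, 12, 10],
  [10, 12, 13, 11, 13, 11, 0, 0, 0, 0, 0],
  [0, 0, 0, 0, 0, 0, 0, 0, 0, 0, 0],
  [4, 6],
  [9, 15, 16, 9, 16, 14],
  [0, 0, 0],
  [11, 16, 18, 11, 18, 17],
  [0, 0],
  [2, 0],
  [1, 3],
  [15, 21, 22, 19, 21, 19, 15, 19, 20, 19, 22, 20],
  [0, 0, 0, 0, 0, 0],
  [13, 0],
  [1, 14],
  [14, 11, 10, 5, 11, 4, 1, 11, 0],
  [0, 0, 0],
  [0, 24, 1],
  [28, 26, 23, 28, 26, 28, 26, 28, 26, 28, 26, 27, 26, 23, 26, 28, 26, 27, 26, 27, 26, 27, 26, 27, 26, 27, 29, 23, 26, 28, 26, 28, 26, 27, 26, 28, 26, 28, 26, 28, 26, 28, 26, 27, 26, 28, 26, 28, 29, 27, 26, 28, 26, 28, 26, 28, 26, 28, 26, 23, 28, 26, 27, 29, 27, 26, 27, 26, 23, 27, 26, 28, 26, 28, 26, 23, 26, 27, 26, 27, 26, 28, 26, 28, 26, 28, 29, 28, 26, 27, 23, 26, 27, 26, 27, 26, 27, 26, 27, 26, 28, 29, 27, 26, 27, 26, 28, 26,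 27, 26, 27, 26, 27, 26, 27, 26, 28, 26, 27, 26, 27, 26, 23, 29],
  [28, 27, 29, 30, 29, 27, 28, 30, 29],
  [28, 29, 28, 30, 28, 30, 28, 30, 28, 30, 31, 29, 28, 29, 28, 29, 28, 29, 28, 30, 28, 30],
  [0, 0, 0],
  [32, 30, 32, 30, 32, 30, 32, 30, 32, 30, 31, 30, 0, 30, 32, 30, 31, 30, 31, 30, 31, 30, 31, 0, 30, 31, 30],
  [32, 34, 33, 31, 32, 34, 32, 31, 33],
  [4, 1, 0],
  [0, 2],
  [0, 0],
  [1, 0, 0],
  [0, 8],
  [38, 40, 37, 39],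
  [39, 38, 41, 40],
  [1, 8, 0],
  [0, 9],
  [0, 0, 0],
  [0, 0],
  [46, 43, 44, 43, 46, 43, 46, 45],
  [45, 47, 44, 47, 44, 46, 44, 47],
  [1, 14, 0],
  [0, 15],
  [10, 4, 0],
  [0, 0, 0],
  [0, 0],
  [50, 52, 53, 51],
  [53, 54, 52, 51],
  [1, 21, 0],
  [0, 22],
  [0, 3],
  [8, 12, 0],
  [0, 0],
  [1, 0, 0],
  [0, 0],
  [12, 4],
  [0, 0],
  [1, 0, 0],
  [0, 0],
  [8, 16],
  [0, 0],
  [1, 0, 0],
  [0, 0],
  [22, 36, 23],
  [0, 37],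
  [72, 71, 69, 71, 69, 72],
  [73, 70, 71, 70, 71, 73],
  [1, 40, 0],
  [0, 41],
  [0, 3],
  [27, 5, 0],
  [0, 0],
  [0, 0],
  [27, 18, 14, 10, 0],
  [34, 74, 33],
  [75, 0],
  [82, 83, 81, 80, 83, 81, 80, 81],
  [83, 81, 83, 84, 81, 83, 84, 82],
  [0, 78, 1],
  [79, 0],
  [0, 0],
  [0, 0, 1],
  [5, 0],
  [7, 0],
  [0, 0],
  [0, 0, 1],
  [0, 0],
  [21, 87, 20],
  [88, 0],
  [22, 0],
  [49, 90, 50],
  [91, 0],
  [2, 0, 16],
  [0, 0],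
  [0, 0],
  [48, 95, 47],
  [96, 0],
  [49, 0],
  [22, 0],
  [0, 0],
  [0, 0, 1],
  [0, 0],
  [4, 26],
  [0, 0],
  [0, 0, 1],
  [0, 0],
  [72, 106, 71],
  [107, 0],
  [0, 0, 0],
  [0, 0],
  [12, 0, 34],
  [0, 0],
  [0, 0, 1],
  [0, 0],
  [90, 114, 86],
  [115, 0],
  [0, 0],
  [0, 0, 1],
  [90, 0],
  [43, 9, 0],
  [0, 0, 0],
  [0, 0],
  [27, 20, 16, 8, 0],
  [49, 36, 0],
  [0],
  [47, 98, 48],
  [0, 99],
  [0, 0],
  [1, 0, 0],
  [0, 51],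
  [40, 38, 0, 60, 32, 97, 97],
  [96, 131, 97],
  [132, 0],
  [0, 0, 0],
  [0, 0],
  [16, 59, 0],
  [0, 0, 0],
  [0, 0],
  [19, 46, 19],
  [0, 0],
  [0, 0, 1],
  [58, 65, 58],
  [0, 0],
  [0, 0, 1],
  [0, 0, 2],
  [62, 55, 35],
  [0, 0],
  [0, 0, 1],
  [0, 0],
  [39, 30],
  [0, 0, 0],
  [0, 0],
  [57, 14, 11, 50, 7, 3, 0],
  [22, 0],
  [0, 0, 0, 0, 0],
  [],
  [31, 0],
  [2, 1],
  [33, 1],
  [4, 2],
  [35, 2],
  [6, 2],
  [37, 2],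
  [38, 2],
  [9, 3],
  [40, 3],
  [41, 3],
  [12, 4],
  [13, 4],
  [44, 4],
  [45, 4],
  [16, 5],
  [17, 5],
  [48, 5],
  [49, 5],
  [50, 5],
  [21, 6],
  [22, 6],
  [53, 6],
  [54, 6],
  [55, 6],
  [26, 7],
  [57, 7],
  [28, 8],
  [29, 8],
  [60, 8],
  [61, 8],
  [62, 8],
  [33, 9],
  [64, 9],
  [35, 10],
  [36, 10],
  [67, 10],
  [38, 10],
  [69, 10],
  [70, 10],
  [71, 10],
  [42, 11],
  [73, 11],
  [74, 10],
  [75, 7],
  [46, 8],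
  [47, 2]]

/-- relations of `a, b, c` and the action of `A, B, k` -/
def eqL : List (List ℕ × List ℕ) := [
  (List.replicate 11 ia, []),
  (List.replicate 11 ib, []),
  (List.replicate 11 ic, []),
  ([ia, ic], [ic, ia]),
  ([ib, ic], [ic, ib]),
  ([ia, ib, ic], [ib, ia]),
  ([iA, ia], List.replicate 4 ia ++ (List.replicate 3 ib ++ (List.replicate 6 ic ++ [iA]))),
  ([iA, ib], List.replicate 4 ia ++ (List.replicate 6 ib ++ (List.replicate 1 ic ++ [iA]))),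
  ([iA, ic], List.replicate 0 ia ++ (List.replicate 0 ib ++ (List.replicate 1 ic ++ [iA]))),
  ([iB, ia], List.replicate 3 ia ++ (List.replicate 6 ib ++ (List.replicate 9 ic ++ [iB]))),
  ([iB, ib], List.replicate 6 ia ++ (List.replicate 8 ib ++ (List.replicate 2 ic ++ [iB]))),
  ([iB, ic], List.replicate 0 ia ++ (List.replicate 0 ib ++ (List.replicate 10 ic ++ [iB]))),
  ([ik, ia], List.replicate 1 ia ++ (List.replicate 2 ib ++ (List.replicate 1 ic ++ [ik]))),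
  ([ik, ib], List.replicate 2 ia ++ (List.replicate 10 ib ++ (List.replicate 10 ic ++ [ik]))),
  ([ik, ic], List.replicate 0 ia ++ (List.replicate 0 ib ++ (List.replicate 6 ic ++ [ik])))]

/-- the index of the element with entries `a, b, c, d` -/
def tbl : List ℕ := [0, 0, 0, 0, 0, 0, 0, 0, 0, 0, 0, 0, 45, 43, 41, 23, 28, 16, 0, 0, 0, 15, 27, 22, 10, 17, 3, 0, 47, 7, 0, 38, 37, 0, 34, 14, 0, 46, 18, 42, 0, 35, 30, 26, 0, 0, 44, 11, 31, 40, 0, 21, 0, 25, 0, 12, 1, 0, 36, 29, 0, 6, 4, 0, 19, 5, 39, 33, 0, 13, 0, 9, 0, 8, 0, 24, 0, 32, 2, 20, 0]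

/-- the multiplication table -/
def tabs : List (List ℕ × List ℕ) := [
  ([78, 47], [46]),
  ([48, 47], [45]),
  ([78, 46], [44]),
  ([48, 46], [43]),
  ([78, 45], [42]),
  ([48, 45], [47]),
  ([78, 44], [47]),
  ([48, 44], [41]),
  ([78, 43], [40]),
  ([48, 43], [46]),
  ([78, 42], [39]),
  ([48, 42], [38]),
  ([78, 41], [37]),
  ([48, 41], [44]),
  ([78, 40], [36]),
  ([48, 40], [35]),
  ([78, 39], [45]),
  ([48, 39], [34]),
  ([78, 38], [33]),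
  ([48, 38], [42]),
  ([78, 37], [32]),
  ([48, 37], [31]),
  ([78, 36], [43]),
  ([48, 36], [30]),
  ([78, 35], [29]),
  ([48, 35], [40]),
  ([78, 34], [28]),
  ([48, 34], [39]),
  ([78, 33], [27]),
  ([48, 33], [26]),
  ([78, 32], [41]),
  ([48, 32], [25]),
  ([78, 31], [24]),
  ([48, 31], [37]),
  ([78, 30], [23]),
  ([48, 30], [36]),
  ([78, 29], [22]),
  ([48, 29], [21]),
  ([78, 28], [20]),
  ([48, 28], [19]),
  ([78, 27], [38]),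
  ([48, 27], [18]),
  ([78, 26], [17]),
  ([48, 26], [33]),
  ([78, 25], [16]),
  ([48, 25], [32]),
  ([78, 24], [15]),
  ([48, 24], [14]),
  ([78, 23], [13]),
  ([48, 23], [12]),
  ([78, 22], [35]),
  ([48, 22], [11]),
  ([78, 21], [10]),
  ([48, 21], [29]),
  ([78, 20], [34]),
  ([48, 20], [9]),
  ([78, 19], [8]),
  ([48, 19], [28]),
  ([78, 18], [7]),
  ([48, 18], [27]),
  ([78, 17], [6]),
  ([48, 17], [5]),
  ([78, 16], [4]),
  ([48, 16], [8]),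
  ([78, 15], [31]),
  ([48, 15], [7]),
  ([78, 14], [3]),
  ([48, 14], [24]),
  ([78, 13], [30]),
  ([48, 13], [6]),
  ([78, 12], [19]),
  ([48, 12], [23]),
  ([78, 11], [18]),
  ([48, 11], [22]),
  ([78, 10], [2]),
  ([48, 10], [1]),
  ([78, 9], [14]),
  ([48, 9], [20]),
  ([78, 8], [12]),
  ([48, 8], [16]),
  ([78, 7], [11]),
  ([48, 7], [15]),
  ([78, 6], [26]),
  ([48, 6], [13]),
  ([78, 5], [1]),
  ([48, 5], [17]),
  ([78, 4], [25]),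
  ([48, 4], [2]),
  ([78, 3], [9]),
  ([48, 3], [0]),
  ([78, 2], [21]),
  ([48, 2], [4]),
  ([78, 1], [0]),
  ([48, 1], [10]),
  ([78, 0], [5]),
  ([48, 0], [3])]

/-- non-trivial elements -/
def neL : List (List ℕ × List ℕ) := [([ic], []),
  ([46], []),
  ([45], []),
  ([44], []),
  ([43], []),
  ([42], []),
  ([41], []),
  ([40], []),
  ([39], []),
  ([38], []),
  ([37], []),
  ([36], []),
  ([35], []),
  ([34], []),
  ([33], []),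
  ([32], []),
  ([31], []),
  ([30], []),
  ([29], []),
  ([28], []),
  ([27], []),
  ([26], []),
  ([25], []),
  ([24], []),
  ([23], []),
  ([22], []),
  ([21], []),
  ([20], []),
  ([19], []),
  ([18], []),
  ([17], []),
  ([16], []),
  ([15], []),
  ([14], []),
  ([13], []),
  ([12], []),
  ([11], []),
  ([10], []),
  ([9], []),
  ([8], []),
  ([7], []),
  ([6], []),
  ([5], []),
  ([4], []),
  ([3], []),
  ([2], []),
  ([1], []),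
  ([0], [])]

end Cfsg.Agent.H859.NUData
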