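import Cfsg.Agent.H859.PGLWords
import Cfsg.Agent.H859.NUData
import Cfsg.Agent.H859.Heis
import Cfsg.Agent.SporadicStructure.M11InvCore

/-!
# Elements of the normalizer of a Sylow 11-subgroup of the presented fourth Janko group (helper859)

The words of `NUData`, checked in the 112-dimensional representation over the field with two elements.
-/

set_option autoImplicit false

namespace Cfsg.Agent.H859.NU

open Cfsg.Agent.Lib.F2MatGroup Cfsg.Agent.J4.Rep112 Cfsg.Agent.H859.NUData
open Cfsg.Agent.H859.PGLWords (check_J4 evG_append)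
open Cfsg.Agent.SporadicStructure.M11InvCore (T W ev exists_word)

/-- all relations -/
def rels : List (List ℕ × List ℕ) := ([47], []) :: (eqL ++ tabs)

theorem check_all : check 112 codes slp rels neL = true := by decide +kernel

/-- the list of values of the program -/
noncomputable def L : List Cfsg.Spor.J4 := runG slp gens
noncomputable def a : Cfsg.Spor.J4 := getG L ia
noncomputable def b : Cfsg.Spor.J4 := getG L ib
noncomputable def c : Cfsg.Spor.J4 := getG L ic
noncomputable def A : Cfsg.Spor.J4 := getG L iA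
noncomputable def B : Cfsg.Spor.J4 := getG L iB
noncomputable def k : Cfsg.Spor.J4 := getG L ik

theorem eq_of {v w : List ℕ} (h : (v, w) ∈ rels) : evG L v = evG L w := (check_J4 check_all).1 _ h
theorem ne_of {v w : List ℕ} (h : (v, w) ∈ neL) : evG L v ≠ evG L w := (check_J4 check_all).2 _ h

theorem eq_rel {v w : List ℕ} (h : (v, w) ∈ eqL) : evG L v = evG L w :=
  eq_of (List.mem_cons_of_mem _ (List.mem_append_left _ h))

theorem ev_pow (i n : ℕ) : evG L (List.replicate n i) = getG L i ^ n :=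
  Cfsg.Agent.J4.Lower.evG_replicate L i n

theorem rel : Heis.Rel 11 a b c where
  ap := by
    have := eq_rel (v := List.replicate 11 ia) (w := []) (by simp [eqL])
    rwa [ev_pow, evG_nil] at this
  bp := by
    have := eq_rel (v := List.replicate 11 ib) (w := []) (by simp [eqL])
    rwa [ev_pow, evG_nil] at this
  wp := by
    have := eq_rel (v := List.replicate 11 ic) (w := []) (by simp [eqL])
    rwa [ev_pow, evG_nil] at this
  aw := by
    have := eq_rel (v := [ia, ic]) (w := [ic, ia]) (by simp [eqL])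
    simp only [evG_cons, evG_nil, mul_one] at this
    exact this
  bw := by
    have := eq_rel (v := [ib, ic]) (w := [ic, ib]) (by simp [eqL])
    simp only [evG_cons, evG_nil, mul_one] at this
    exact this
  ba := by
    have := eq_rel (v := [ia, ib, ic]) (w := [ib, ia]) (by simp [eqL])
    simp only [evG_cons, evG_nil, mul_one] at this
    rw [mul_assoc]
    exact this.symm
  w1 := by
    have := ne_of (v := [ic]) (w := []) (by simp [neL])
    simp only [evG_cons, evG_nil, mul_one] at this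
    exact this

/-- the action of a generator -/
theorem act {g x i j l : ℕ} (h : ([g, x], List.replicate i ia ++ (List.replicate j ib ++
    (List.replicate l ic ++ [g]))) ∈ eqL) :
    getG L g * getG L x * (getG L g)⁻¹ = a ^ i * b ^ j * c ^ l := by
  have := eq_rel h
  simp only [evG_append, ev_pow, evG_cons, evG_nil, mul_one] at this
  rw [mul_inv_eq_iff_eq_mul, this]
  simp only [mul_assoc]
  rfl

theorem A_a : A * a * A⁻¹ = a ^ 4 * b ^ 3 * c ^ 6 := act (by simp [eqL])
theorem A_b : A * b * A⁻¹ = a ^ 4 * b ^ 6 * c ^ 1 := act (by simp [eqL])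
theorem A_c : A * c * A⁻¹ = a ^ 0 * b ^ 0 * c ^ 1 := act (by simp [eqL])
theorem B_a : B * a * B⁻¹ = a ^ 3 * b ^ 6 * c ^ 9 := act (by simp [eqL])
theorem B_b : B * b * B⁻¹ = a ^ 6 * b ^ 8 * c ^ 2 := act (by simp [eqL])
theorem B_c : B * c * B⁻¹ = a ^ 0 * b ^ 0 * c ^ 10 := act (by simp [eqL])
theorem k_a : k * a * k⁻¹ = a ^ 1 * b ^ 2 * c ^ 1 := act (by simp [eqL])
theorem k_b : k * b * k⁻¹ = a ^ 2 * b ^ 10 * c ^ 10 := act (by simp [eqL])
theorem k_c : k * c * k⁻¹ = a ^ 0 * b ^ 0 * c ^ 6 := act (by simp [eqL])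

instance fact11 : Fact (Nat.Prime 11) := ⟨by norm_num⟩

/-- the Sylow 11-subgroup -/
noncomputable def U : Subgroup Cfsg.Spor.J4 := Heis.gp rel

theorem card_U : Nat.card U = 11 ^ 3 := Heis.card rel

/-! ### `GL₂(3)` -/

/-- the index of the matrix with entries `a, b, c, d` -/
def gi (a b c d : ZMod 3) : ℕ := tbl.getD (a.val * 27 + b.val * 9 + c.val * 3 + d.val) 0

theorem tab_A : ∀ a b c d : ZMod 3, a * d - b * c ≠ 0 →
    ([iA, gi a b c d], [gi (a + c) (b + d) c d]) ∈ rels := by decide +kernel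

theorem tab_B : ∀ a b c d : ZMod 3, a * d - b * c ≠ 0 →
    ([iB, gi a b c d], [gi c d a b]) ∈ rels := by decide +kernel

theorem tab_ne : ∀ a b c d : ZMod 3, a * d - b * c ≠ 0 → (a = 1 ∧ b = 0 ∧ c = 0 ∧ d = 1) ∨
    ([gi a b c d], []) ∈ neL := by decide +kernel

/-- the element of a matrix -/
noncomputable def gm (M : Matrix (Fin 2) (Fin 2) (ZMod 3)) : Cfsg.Spor.J4 :=
  getG L (gi (M 0 0) (M 0 1) (M 1 0) (M 1 1))

theorem gm_one : gm 1 = 1 := by
  have h : gi ((1 : Matrix (Fin 2) (Fin 2) (ZMod 3)) 0 0) ((1 : Matrix (Fin 2) (Fin 2) (ZMod 3)) 0 1)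
    ((1 : Matrix (Fin 2) (Fin 2) (ZMod 3)) 1 0) ((1 : Matrix (Fin 2) (Fin 2) (ZMod 3)) 1 1) = 47 := by
    decide +kernel
  have h1 := eq_of (v := [47]) (w := []) (by simp [rels])
  simp only [evG_cons, evG_nil, mul_one] at h1
  unfold gm
  rw [h, h1]

theorem gm_T {M : Matrix (Fin 2) (Fin 2) (ZMod 3)} (hM : M.det ≠ 0) : gm (T * M) = A * gm M := by
  rw [Matrix.det_fin_two] at hM
  have h := eq_of (tab_A _ _ _ _ hM)
  simp only [evG_cons, evG_nil, mul_one] at h
  have e : gm (T * M) = getG L (gi (M 0 0 + M 1 0) (M 0 1 + M 1 1) (M 1 0) (M 1 1)) := by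
    unfold gm
    congr 2 <;> simp [T, Matrix.mul_apply, Fin.sum_univ_two]
  rw [e, ← h]
  rfl

theorem gm_W {M : Matrix (Fin 2) (Fin 2) (ZMod 3)} (hM : M.det ≠ 0) : gm (W * M) = B * gm M := by
  rw [Matrix.det_fin_two] at hM
  have h := eq_of (tab_B _ _ _ _ hM)
  simp only [evG_cons, evG_nil, mul_one] at h
  have e : gm (W * M) = getG L (gi (M 1 0) (M 1 1) (M 0 0) (M 0 1)) := by
    unfold gm
    congr 2 <;> simp [W, Matrix.mul_apply, Fin.sum_univ_two]
  rw [e, ← h]
  rfl

theorem gm_ne {M : Matrix (Fin 2) (Fin 2) (ZMod 3)} (hM : M.det ≠ 0) (h : gm M = 1) : M = 1 := by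
  rw [Matrix.det_fin_two] at hM
  rcases tab_ne _ _ _ _ hM with h1 | h1
  · obtain ⟨h2, h3, h4, h5⟩ := h1
    ext i j
    fin_cases i <;> fin_cases j <;> simp [h2, h3, h4, h5]
  · exfalso
    have h2 := ne_of h1
    simp only [evG_cons, evG_nil, mul_one] at h2
    exact h2 h

/-- the value of a word -/
noncomputable def evJ : List Bool → Cfsg.Spor.J4
  | [] => 1
  | true :: l => A * evJ l
  | false :: l => B * evJ l

theorem det_ev (l : List Bool) : (ev l).det ≠ 0 := by
  induction l with
  | nil =>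
    show (1 : Matrix (Fin 2) (Fin 2) (ZMod 3)).det ≠ 0
    rw [Matrix.det_one]; decide
  | cons b l ih =>
    cases b
    · show (W * ev l).det ≠ 0
      rw [Matrix.det_mul]
      exact mul_ne_zero (by decide +kernel) ih
    · show (T * ev l).det ≠ 0
      rw [Matrix.det_mul]
      exact mul_ne_zero (by decide +kernel) ih

theorem gm_ev (l : List Bool) {M : Matrix (Fin 2) (Fin 2) (ZMod 3)} (hM : M.det ≠ 0) :
    gm (ev l * M) = evJ l * gm M := by
  induction l with
  | nil => rw [show ev [] = 1 from rfl, show evJ [] = 1 from rfl, one_mul, one_mul]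
  | cons b l ih =>
    have hd : (ev l * M).det ≠ 0 := by
      rw [Matrix.det_mul]; exact mul_ne_zero (det_ev l) hM
    cases b
    · rw [show ev (false :: l) = W * ev l from rfl, show evJ (false :: l) = B * evJ l from rfl,
        mul_assoc, gm_W hd, ih, mul_assoc]
    · rw [show ev (true :: l) = T * ev l from rfl, show evJ (true :: l) = A * evJ l from rfl,
        mul_assoc, gm_T hd, ih, mul_assoc]

theorem det_ne (g : GL (Fin 2) (ZMod 3)) : (g : Matrix (Fin 2) (Fin 2) (ZMod 3)).det ≠ 0 := by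
  have := g.isUnit
  rw [Matrix.isUnit_iff_isUnit_det] at this
  exact this.ne_zero

theorem exists_ev (g : GL (Fin 2) (ZMod 3)) : ∃ l, ev l = (g : Matrix (Fin 2) (Fin 2) (ZMod 3)) ∧
    gm (g : Matrix (Fin 2) (Fin 2) (ZMod 3)) = evJ l := by
  obtain ⟨l, hl⟩ := exists_word _ (det_ne g)
  refine ⟨l, hl, ?_⟩
  have h := gm_ev l (M := 1) (by rw [Matrix.det_one]; decide)
  rw [mul_one, gm_one, mul_one] at h
  rw [← hl, h]

/-- the homomorphism -/
noncomputable def hom : GL (Fin 2) (ZMod 3) →* Cfsg.Spor.J4 where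
  toFun g := gm (g : Matrix (Fin 2) (Fin 2) (ZMod 3))
  map_one' := gm_one
  map_mul' g g' := by
    obtain ⟨l, hl, h⟩ := exists_ev g
    rw [h, Units.val_mul, ← hl]
    exact gm_ev l (det_ne g')

theorem hom_injective : Function.Injective hom := by
  rw [injective_iff_map_eq_one]
  intro g hg
  exact Units.ext (gm_ne (det_ne g) hg)

theorem hom_range_le {N : Subgroup Cfsg.Spor.J4} (hA : A ∈ N) (hB : B ∈ N) : hom.range ≤ N := by
  have key : ∀ l, evJ l ∈ N := by
    intro l
    induction l with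
    | nil => exact N.one_mem
    | cons b l ih =>
      cases b
      · exact N.mul_mem hB ih
      · exact N.mul_mem hA ih
  rintro _ ⟨g, rfl⟩
  obtain ⟨l, -, h⟩ := exists_ev g
  show gm _ ∈ N
  rw [h]
  exact key l

end Cfsg.Agent.H859.NU
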