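import Mathlib

/-!
# A homomorphism from `GL₂(F)` with kernel the centre, from a presentation of `PGL₂(F)` (helper859)

`Data F K` : functions `u h : F → K` and `w : K` with the relations of the unipotent group, the torus and the Weyl
element of `PGL₂(F)`.  `Data.hom : GL (Fin 2) F →* K`; its kernel is the centre if `u` is injective and `6 ≠ 0` in `F`.
-/

set_option autoImplicit false

namespace Cfsg.Agent.H859.PGLHom

open Matrix

/-- the relations of `PGL₂(F)` -/
structure Data (F K : Type*) [Field F] [Group K] where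
  u : F → K
  h : F → K
  w : K
  u_add : ∀ a b, u (a + b) = u a * u b
  h_mul : ∀ a b, a ≠ 0 → b ≠ 0 → h (a * b) = h a * h b
  h_u : ∀ a b, a ≠ 0 → h a * u b = u (a * b) * h a
  w_w : w * w = 1
  w_h : ∀ a, a ≠ 0 → w * h a = h a⁻¹ * w
  w_u : w * u 1 * w = u (-1) * w * u (-1)

namespace Data

variable {F K : Type*} [Field F] [Group K] (D : Data F K)

theorem u_zero : D.u 0 = 1 := by
  have h := D.u_add 0 0
  rw [add_zero] at h
  exact (mul_eq_left.1 h.symm)

theorem h_one : D.h 1 = 1 := by
  have h := D.h_mul 1 1 one_ne_zero one_ne_zero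
  rw [mul_one] at h
  exact (mul_eq_left.1 h.symm)

theorem h_inv {a : F} (ha : a ≠ 0) : D.h a * D.h a⁻¹ = 1 := by
  rw [← D.h_mul a a⁻¹ ha (inv_ne_zero ha), mul_inv_cancel₀ ha, D.h_one]

theorem w_cancel (k : K) : D.w * (D.w * k) = k := by rw [← mul_assoc, D.w_w, one_mul]

theorem h_w {a : F} (ha : a ≠ 0) : D.h a * D.w = D.w * D.h a⁻¹ := by
  have := D.w_h a⁻¹ (inv_ne_zero ha)
  rw [inv_inv] at this
  exact this.symm

/-- the general relation between `w` and `u s` -/
theorem w_u_gen {s : F} (hs : s ≠ 0) :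
    D.w * D.u s = D.u (-s⁻¹) * D.w * D.h (s ^ 2) * D.u (-s⁻¹) * D.w := by
  have e1 : D.u s = D.h s * D.u 1 * D.h s⁻¹ := by
    rw [D.h_u s 1 hs, mul_one, mul_assoc, D.h_inv hs, mul_one]
  have e2 : D.w * D.u s * D.w = D.u (-s⁻¹) * D.w * D.h (s ^ 2) * D.u (-s⁻¹) := by
    have e3 : D.h s⁻¹ * D.u (-1) = D.u (-s⁻¹) * D.h s⁻¹ := by
      rw [D.h_u s⁻¹ (-1) (inv_ne_zero hs)]
      congr 2
      ring
    have e4 : D.u (-1) * D.h s = D.h s * D.u (-s⁻¹) := by
      rw [D.h_u s (-s⁻¹) hs]
      congr 2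
      field_simp
    calc D.w * D.u s * D.w = (D.w * D.h s) * D.u 1 * (D.h s⁻¹ * D.w) := by rw [e1]; simp only [mul_assoc]
      _ = (D.h s⁻¹ * D.w) * D.u 1 * (D.w * D.h s) := by
        rw [D.w_h s hs, D.h_w (inv_ne_zero hs), inv_inv]
      _ = D.h s⁻¹ * (D.w * D.u 1 * D.w) * D.h s := by simp only [mul_assoc]
      _ = (D.h s⁻¹ * D.u (-1)) * D.w * (D.u (-1) * D.h s) := by rw [D.w_u]; simp only [mul_assoc]
      _ = D.u (-s⁻¹) * (D.h s⁻¹ * D.w) * (D.h s * D.u (-s⁻¹)) := by rw [e3, e4]; simp only [mul_assoc]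
      _ = D.u (-s⁻¹) * (D.w * D.h s) * (D.h s * D.u (-s⁻¹)) := by rw [D.h_w (inv_ne_zero hs), inv_inv]
      _ = D.u (-s⁻¹) * D.w * (D.h s * D.h s) * D.u (-s⁻¹) := by simp only [mul_assoc]
      _ = _ := by rw [← D.h_mul s s hs hs, ← pow_two]
  calc D.w * D.u s = D.w * D.u s * D.w * D.w := by rw [mul_assoc _ D.w D.w, D.w_w, mul_one]
    _ = _ := by rw [e2]

open Classical in
/-- the value on the matrix `(a b; c d)` -/
noncomputable def f (a b c d : F) : K :=
  if c = 0 then D.u (b / d) * D.h (a / d)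
  else D.u (a / c) * D.w * D.h (c ^ 2 / (a * d - b * c)) * D.u (d / c)

theorem f_zero (a b d : F) : D.f a b 0 d = D.u (b / d) * D.h (a / d) := by
  unfold f
  rw [if_pos rfl]

theorem f_ne {a b c d : F} (hc : c ≠ 0) :
    D.f a b c d = D.u (a / c) * D.w * D.h (c ^ 2 / (a * d - b * c)) * D.u (d / c) := by
  unfold f
  rw [if_neg hc]

theorem f_u (s : F) {a b c d : F} (hD : a * d - b * c ≠ 0) :
    D.f (a + s * c) (b + s * d) c d = D.u s * D.f a b c d := by
  by_cases hc : c = 0
  · subst hc
    have hd : d ≠ 0 := by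
      rintro rfl
      apply hD
      ring
    rw [D.f_zero, D.f_zero, ← mul_assoc, ← D.u_add]
    congr 2
    · field_simp
      ring
    · ring
  · rw [D.f_ne hc, D.f_ne hc]
    have e1 : (a + s * c) / c = s + a / c := by
      field_simp
      ring
    have e2 : (a + s * c) * d - (b + s * d) * c = a * d - b * c := by ring
    rw [e1, e2, D.u_add]
    simp only [mul_assoc]

theorem f_h {t : F} (ht : t ≠ 0) {a b c d : F} (hD : a * d - b * c ≠ 0) :
    D.f (t * a) (t * b) c d = D.h t * D.f a b c d := by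
  by_cases hc : c = 0
  · subst hc
    have hd : d ≠ 0 := by
      rintro rfl
      apply hD
      ring
    have ha : a ≠ 0 := by
      rintro rfl
      apply hD
      ring
    rw [D.f_zero, D.f_zero, ← mul_assoc, D.h_u t _ ht, mul_assoc, ← D.h_mul t _ ht (div_ne_zero ha hd)]
    congr 2
    · ring
    · ring
  · rw [D.f_ne hc, D.f_ne hc]
    have e2 : t * a * d - t * b * c = t * (a * d - b * c) := by ring
    have e3 : c ^ 2 / (t * (a * d - b * c)) = t⁻¹ * (c ^ 2 / (a * d - b * c)) := by
      field_simp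
    have e4 : c ^ 2 / (a * d - b * c) ≠ 0 := div_ne_zero (pow_ne_zero 2 hc) hD
    rw [e2, e3, D.h_mul _ _ (inv_ne_zero ht) e4]
    have e5 : D.h t * (D.u (a / c) * D.w) = D.u (t * a / c) * D.w * D.h t⁻¹ := by
      rw [← mul_assoc, D.h_u t _ ht, mul_assoc, D.h_w ht, ← mul_assoc, mul_div_assoc]
    calc D.u (t * a / c) * D.w * (D.h t⁻¹ * D.h (c ^ 2 / (a * d - b * c))) * D.u (d / c)
        = (D.u (t * a / c) * D.w * D.h t⁻¹) * D.h (c ^ 2 / (a * d - b * c)) * D.u (d / c) := by
          simp only [mul_assoc]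
      _ = _ := by rw [← e5]; simp only [mul_assoc]

theorem f_w {a b c d : F} (hD : a * d - b * c ≠ 0) :
    D.f c d (-a) (-b) = D.w * D.f a b c d := by
  by_cases hc : c = 0
  · subst hc
    have hd : d ≠ 0 := by
      rintro rfl
      apply hD
      ring
    have ha : a ≠ 0 := by
      rintro rfl
      apply hD
      ring
    rw [D.f_zero, D.f_ne (neg_ne_zero.2 ha)]
    have e1 : (0 : F) / (-a) = 0 := zero_div _
    have e2 : (-a) ^ 2 / (0 * (-b) - d * (-a)) = a / d := by
      field_simp
      ring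
    have e3 : (-b) / (-a) = b / a := neg_div_neg_eq b a
    rw [e1, e2, e3, D.u_zero, one_mul, mul_assoc, D.h_u _ _ (div_ne_zero ha hd)]
    have e4 : a / d * (b / a) = b / d := by
      field_simp
    rw [e4]
  · rw [D.f_ne hc]
    by_cases ha : a = 0
    · subst ha
      have hb : b ≠ 0 := by
        rintro rfl
        apply hD
        ring
      rw [neg_zero, D.f_zero, zero_div, D.u_zero, one_mul, mul_assoc, D.w_cancel]
      have e1 : c ^ 2 / (0 * d - b * c) = c / (-b) := by
        field_simp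
        ring
      rw [e1, D.h_u _ _ (div_ne_zero hc (neg_ne_zero.2 hb))]
      congr 2
      field_simp
    · rw [D.f_ne (neg_ne_zero.2 ha)]
      have hs : a / c ≠ 0 := div_ne_zero ha hc
      have hq : c ^ 2 / (a * d - b * c) ≠ 0 := div_ne_zero (pow_ne_zero 2 hc) hD
      have e0 : (a / c)⁻¹ = c / a := inv_div a c
      -- the right-hand side
      have e1 : D.w * (D.u (a / c) * D.w * D.h (c ^ 2 / (a * d - b * c)) * D.u (d / c)) =
          D.u (-(c / a)) * D.w * D.h ((a / c) ^ 2) * (D.u (-(c / a)) *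
            D.h (c ^ 2 / (a * d - b * c))) * D.u (d / c) := by
        have e2 := D.w_u_gen hs
        rw [e0] at e2
        calc D.w * (D.u (a / c) * D.w * D.h (c ^ 2 / (a * d - b * c)) * D.u (d / c))
            = (D.w * D.u (a / c)) * D.w * (D.h (c ^ 2 / (a * d - b * c)) * D.u (d / c)) := by
              simp only [mul_assoc]
          _ = (D.u (-(c / a)) * D.w * D.h ((a / c) ^ 2) * D.u (-(c / a)) * D.w) * D.w *
              (D.h (c ^ 2 / (a * d - b * c)) * D.u (d / c)) := by rw [e2]
          _ = D.u (-(c / a)) * D.w * D.h ((a / c) ^ 2) * D.u (-(c / a)) * (D.w * D.w) *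
              (D.h (c ^ 2 / (a * d - b * c)) * D.u (d / c)) := by simp only [mul_assoc]
          _ = _ := by rw [D.w_w, mul_one]; simp only [mul_assoc]
      rw [e1]
      have e3 : D.u (-(c / a)) * D.h (c ^ 2 / (a * d - b * c)) =
          D.h (c ^ 2 / (a * d - b * c)) * D.u (-((a * d - b * c) / (a * c))) := by
        rw [D.h_u _ _ hq]
        congr 2
        generalize a * d - b * c = e at hD
        field_simp
      rw [e3]
      have e4 : D.h ((a / c) ^ 2) * D.h (c ^ 2 / (a * d - b * c)) = D.h (a ^ 2 / (a * d - b * c)) := by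
        rw [← D.h_mul _ _ (pow_ne_zero 2 hs) hq]
        congr 1
        field_simp
      have e5 : D.u (-((a * d - b * c) / (a * c))) * D.u (d / c) = D.u (b / a) := by
        rw [← D.u_add]
        congr 1
        field_simp
        ring
      have e6 : c / -a = -(c / a) := div_neg c
      have e7 : (-a) ^ 2 / (c * (-b) - d * (-a)) = a ^ 2 / (a * d - b * c) := by
        congr 1 <;> ring
      have e8 : (-b) / (-a) = b / a := neg_div_neg_eq b a
      rw [e6, e7, e8, ← e4, ← e5]
      simp only [mul_assoc]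

theorem f_scalar {l : F} (hl : l ≠ 0) (a b c d : F) :
    D.f (l * a) (l * b) (l * c) (l * d) = D.f a b c d := by
  by_cases hc : c = 0
  · subst hc
    rw [mul_zero, D.f_zero, D.f_zero, mul_div_mul_left _ _ hl, mul_div_mul_left _ _ hl]
  · rw [D.f_ne hc, D.f_ne (mul_ne_zero hl hc), mul_div_mul_left _ _ hl, mul_div_mul_left _ _ hl]
    have e : (l * c) ^ 2 / (l * a * (l * d) - l * b * (l * c)) = c ^ 2 / (a * d - b * c) := by
      have e1 : (l * c) ^ 2 = l ^ 2 * c ^ 2 := by ring
      have e2 : l * a * (l * d) - l * b * (l * c) = l ^ 2 * (a * d - b * c) := by ring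
      rw [e1, e2, mul_div_mul_left _ _ (pow_ne_zero 2 hl)]
    rw [e]

/-- multiplicativity -/
theorem f_mul {a b c d a' b' c' d' : F} (hD : a * d - b * c ≠ 0) (hD' : a' * d' - b' * c' ≠ 0) :
    D.f (a * a' + b * c') (a * b' + b * d') (c * a' + d * c') (c * b' + d * d') =
      D.f a b c d * D.f a' b' c' d' := by
  by_cases hc : c = 0
  · subst hc
    have hd : d ≠ 0 := by
      rintro rfl
      apply hD
      ring
    have ha : a ≠ 0 := by
      rintro rfl
      apply hD
      ring
    have e1 := D.f_h (div_ne_zero ha hd) hD'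
    have hD2 : a / d * a' * d' - a / d * b' * c' ≠ 0 := by
      have : a / d * a' * d' - a / d * b' * c' = a / d * (a' * d' - b' * c') := by ring
      rw [this]
      exact mul_ne_zero (div_ne_zero ha hd) hD'
    have e2 := D.f_u (b / d) hD2
    rw [D.f_zero, mul_assoc, ← e1, ← e2]
    refine Eq.trans ?_ (D.f_scalar hd _ _ _ _)
    congr 1
    · field_simp
    · field_simp
    · ring
    · ring
  · have hq : c ^ 2 / (a * d - b * c) ≠ 0 := div_ne_zero (pow_ne_zero 2 hc) hD
    have e1 := D.f_u (d / c) hD'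
    have hD1 : (a' + d / c * c') * d' - (b' + d / c * d') * c' ≠ 0 := by
      have : (a' + d / c * c') * d' - (b' + d / c * d') * c' = a' * d' - b' * c' := by ring
      rw [this]
      exact hD'
    have e2 := D.f_h hq hD1
    have hD2 : c ^ 2 / (a * d - b * c) * (a' + d / c * c') * d' -
        c ^ 2 / (a * d - b * c) * (b' + d / c * d') * c' ≠ 0 := by
      have : c ^ 2 / (a * d - b * c) * (a' + d / c * c') * d' -
        c ^ 2 / (a * d - b * c) * (b' + d / c * d') * c' = c ^ 2 / (a * d - b * c) * (a' * d' - b' * c') := by ring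
      rw [this]
      exact mul_ne_zero hq hD'
    have e3 := D.f_w hD2
    have hD3 : c' * (-(c ^ 2 / (a * d - b * c) * (b' + d / c * d'))) -
        d' * (-(c ^ 2 / (a * d - b * c) * (a' + d / c * c'))) ≠ 0 := by
      have : c' * (-(c ^ 2 / (a * d - b * c) * (b' + d / c * d'))) -
        d' * (-(c ^ 2 / (a * d - b * c) * (a' + d / c * c'))) =
          c ^ 2 / (a * d - b * c) * (a' * d' - b' * c') := by ring
      rw [this]
      exact mul_ne_zero hq hD'
    have e4 := D.f_u (a / c) hD3
    have hl : -((a * d - b * c) / c) ≠ 0 := neg_ne_zero.2 (div_ne_zero hD hc)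
    rw [D.f_ne hc, mul_assoc, ← e1, mul_assoc, ← e2, mul_assoc, ← e3, ← e4]
    refine Eq.trans ?_ (D.f_scalar hl _ _ _ _)
    clear e1 e2 e3 e4 hD1 hD2 hD3
    have hq' : c ^ 2 / (a * d - b * c) * ((a * d - b * c) / c) = c := by
      generalize a * d - b * c = e at hD
      field_simp
    have hq2 : (a * d - b * c) / c * c = a * d - b * c := div_mul_cancel₀ _ hc
    have hac : a / c * c = a := div_mul_cancel₀ _ hc
    have hdc : d / c * c = d := div_mul_cancel₀ _ hc
    generalize c ^ 2 / (a * d - b * c) = q at *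
    generalize (a * d - b * c) / c = r at *
    generalize a / c = m at *
    generalize d / c = n at *
    subst hac
    subst hdc
    have hb : b * c = m * c * (n * c) - r * c := by linear_combination hq2
    have hb' : b = m * n * c - r := by
      apply mul_right_cancel₀ hc
      linear_combination hb
    subst hb'
    congr 1
    · linear_combination (-m * a' - m * n * c') * hq'
    · linear_combination (-m * b' - m * n * d') * hq'
    · linear_combination (-a' - n * c') * hq'
    · linear_combination (-b' - n * d') * hq'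

/-- **The homomorphism.** -/
noncomputable def hom : GL (Fin 2) F →* K where
  toFun g := D.f (g.1 0 0) (g.1 0 1) (g.1 1 0) (g.1 1 1)
  map_one' := by
    show D.f ((1 : Matrix (Fin 2) (Fin 2) F) 0 0) ((1 : Matrix (Fin 2) (Fin 2) F) 0 1)
      ((1 : Matrix (Fin 2) (Fin 2) F) 1 0) ((1 : Matrix (Fin 2) (Fin 2) F) 1 1) = 1
    rw [Matrix.one_apply_eq, Matrix.one_apply_ne (by decide), Matrix.one_apply_ne (by decide),
      Matrix.one_apply_eq, D.f_zero, zero_div, div_one, D.u_zero, D.h_one, one_mul]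
  map_mul' g g' := by
    have hg : g.1 0 0 * g.1 1 1 - g.1 0 1 * g.1 1 0 ≠ 0 := by
      rw [← Matrix.det_fin_two]
      exact ((Matrix.isUnit_iff_isUnit_det _).1 g.isUnit).ne_zero
    have hg' : g'.1 0 0 * g'.1 1 1 - g'.1 0 1 * g'.1 1 0 ≠ 0 := by
      rw [← Matrix.det_fin_two]
      exact ((Matrix.isUnit_iff_isUnit_det _).1 g'.isUnit).ne_zero
    rw [← D.f_mul hg hg']
    simp only [Units.val_mul, Matrix.mul_apply, Fin.sum_univ_two]

theorem hom_apply (g : GL (Fin 2) F) : D.hom g = D.f (g.1 0 0) (g.1 0 1) (g.1 1 0) (g.1 1 1) := rfl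

theorem det_ne (g : GL (Fin 2) F) : g.1 0 0 * g.1 1 1 - g.1 0 1 * g.1 1 0 ≠ 0 := by
  rw [← Matrix.det_fin_two]
  exact ((Matrix.isUnit_iff_isUnit_det _).1 g.isUnit).ne_zero

/-- the kernel consists of scalar matrices -/
theorem scalar_of_hom_eq_one (hu : ∀ s, D.u s = 1 → s = 0) (h2 : (2 : F) ≠ 0) (h3 : (3 : F) ≠ 0)
    {g : GL (Fin 2) F} (hg : D.hom g = 1) : g.1 1 0 = 0 ∧ g.1 0 1 = 0 ∧ g.1 0 0 = g.1 1 1 := by
  have hD := det_ne g
  rw [D.hom_apply] at hg
  generalize g.1 0 0 = a at *
  generalize g.1 0 1 = b at *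
  generalize g.1 1 0 = c at *
  generalize g.1 1 1 = d at *
  have hinj : ∀ s t, D.u s = D.u t → s = t := by
    intro s t hst
    have h1 : D.u (s + -t) = 1 := by
      rw [D.u_add, hst, ← D.u_add, add_neg_cancel, D.u_zero]
    have h4 := hu _ h1
    rw [← sub_eq_add_neg] at h4
    exact sub_eq_zero.1 h4
  by_cases hc : c = 0
  · subst hc
    have hd : d ≠ 0 := by
      rintro rfl
      apply hD
      ring
    have ha : a ≠ 0 := by
      rintro rfl
      apply hD
      ring
    rw [D.f_zero] at hg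
    have hh : D.h (a / d) = D.u (-(b / d)) := by
      have h4 : D.u (-(b / d)) * D.u (b / d) = 1 := by
        rw [← D.u_add, neg_add_cancel, D.u_zero]
      have h5 : D.h (a / d) = D.u (-(b / d)) * (D.u (b / d) * D.h (a / d)) := by
        rw [← mul_assoc, h4, one_mul]
      rw [h5, hg, mul_one]
    have h6 := D.h_u (a / d) 1 (div_ne_zero ha hd)
    rw [hh, ← D.u_add, ← D.u_add] at h6
    have h7 := hinj _ _ h6
    have h8 : a / d = 1 := by
      rw [mul_one] at h7
      linear_combination -h7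
    have h9 : D.u (b / d) = 1 := by
      rw [h8, D.h_one, mul_one] at hg
      exact hg
    have h10 := hu _ h9
    refine ⟨rfl, ?_, ?_⟩
    · rcases div_eq_zero_iff.1 h10 with h | h
      · exact h
      · exact absurd h hd
    · exact (div_eq_one_iff_eq hd).1 h8
  · exfalso
    rw [D.f_ne hc] at hg
    have hq : c ^ 2 / (a * d - b * c) ≠ 0 := div_ne_zero (pow_ne_zero 2 hc) hD
    generalize c ^ 2 / (a * d - b * c) = t at *
    -- `w h(t) = u(s)`
    have h4 : D.w * D.h t = D.u (-(a / c) + -(d / c)) := by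
      have h5 : D.u (-(a / c)) * D.u (a / c) = 1 := by
        rw [← D.u_add, neg_add_cancel, D.u_zero]
      have h6 : D.u (d / c) * D.u (-(d / c)) = 1 := by
        rw [← D.u_add, add_neg_cancel, D.u_zero]
      calc D.w * D.h t = (D.u (-(a / c)) * D.u (a / c)) * (D.w * D.h t) *
            (D.u (d / c) * D.u (-(d / c))) := by rw [h5, h6, one_mul, mul_one]
        _ = D.u (-(a / c)) * (D.u (a / c) * D.w * D.h t * D.u (d / c)) * D.u (-(d / c)) := by
            simp only [mul_assoc]
        _ = _ := by rw [hg, mul_one, ← D.u_add]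
    generalize -(a / c) + -(d / c) = s at h4
    have h5 : D.w * D.h t * (D.w * D.h t) = 1 := by
      rw [D.w_h t hq]
      calc D.h t⁻¹ * D.w * (D.h t⁻¹ * D.w) = D.h t⁻¹ * (D.w * D.h t⁻¹) * D.w := by simp only [mul_assoc]
        _ = D.h t⁻¹ * (D.h t * D.w) * D.w := by rw [D.w_h t⁻¹ (inv_ne_zero hq), inv_inv]
        _ = (D.h t⁻¹ * D.h t) * (D.w * D.w) := by simp only [mul_assoc]
        _ = 1 := by
          have h6 := D.h_inv (inv_ne_zero hq)
          rw [inv_inv] at h6
          rw [h6, D.w_w, one_mul]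
    rw [h4, ← D.u_add] at h5
    have h6 := hu _ h5
    have hs : s = 0 := by
      have h7 : 2 * s = 0 := by rw [two_mul]; exact h6
      exact (mul_eq_zero.1 h7).resolve_left h2
    rw [hs, D.u_zero] at h4
    -- `w = h(t⁻¹)`, so `w u(1) w = u(t⁻¹)`
    have h7 : D.w = D.h t⁻¹ := by
      have h8 := D.h_inv hq
      calc D.w = D.w * (D.h t * D.h t⁻¹) := by rw [h8, mul_one]
        _ = (D.w * D.h t) * D.h t⁻¹ := by rw [mul_assoc]
        _ = _ := by rw [h4, one_mul]
    have h8 : D.w * D.u 1 = D.u t⁻¹ * D.w := by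
      have h9 := D.h_u t⁻¹ 1 (inv_ne_zero hq)
      rw [← h7, mul_one] at h9
      exact h9
    have h9 : D.u t⁻¹ = D.u (-1) * D.w * D.u (-1) := by
      rw [← D.w_u, h8, mul_assoc, D.w_w, mul_one]
    have h10 : D.w = D.u (1 + t⁻¹ + 1) := by
      have h11 : D.u 1 * D.u (-1) = 1 := by rw [← D.u_add, add_neg_cancel, D.u_zero]
      have h12 : D.u (-1) * D.u 1 = 1 := by rw [← D.u_add, neg_add_cancel, D.u_zero]
      calc D.w = (D.u 1 * D.u (-1)) * D.w * (D.u (-1) * D.u 1) := by rw [h11, h12, one_mul, mul_one]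
        _ = D.u 1 * (D.u (-1) * D.w * D.u (-1)) * D.u 1 := by simp only [mul_assoc]
        _ = _ := by rw [← h9, ← D.u_add, ← D.u_add]
    have h11 : 1 + t⁻¹ + 1 = 0 := by
      have h12 := D.w_w
      rw [h10, ← D.u_add] at h12
      have h13 := hu _ h12
      rw [← two_mul] at h13
      exact (mul_eq_zero.1 h13).resolve_left h2
    rw [h11, D.u_zero] at h10
    have h12 := D.w_u
    rw [h10, one_mul, mul_one, mul_one, ← D.u_add] at h12
    have h13 := hinj _ _ h12
    apply h3
    linear_combination h13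

/-- **The kernel is the centre.** -/
theorem ker_eq (hu : ∀ s, D.u s = 1 → s = 0) (h2 : (2 : F) ≠ 0) (h3 : (3 : F) ≠ 0) :
    D.hom.ker = Subgroup.center (GL (Fin 2) F) := by
  ext g
  rw [MonoidHom.mem_ker]
  constructor
  · intro hg
    obtain ⟨h10, h01, h00⟩ := D.scalar_of_hom_eq_one hu h2 h3 hg
    rw [Subgroup.mem_center_iff]
    intro k
    apply Units.ext
    ext i j
    simp only [Units.val_mul, Matrix.mul_apply, Fin.sum_univ_two]
    fin_cases i <;> fin_cases j <;> simp [h10, h01, h00, mul_comm]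
  · intro hg
    obtain ⟨a, ha⟩ := Matrix.GeneralLinearGroup.mem_center_iff_val_mem_range_scalar.1 hg
    have hD := det_ne g
    have h00 : g.1 0 0 = a := by rw [← ha]; simp
    have h01 : g.1 0 1 = 0 := by rw [← ha]; simp
    have h10 : g.1 1 0 = 0 := by rw [← ha]; simp
    have h11 : g.1 1 1 = a := by rw [← ha]; simp
    have ha0 : a ≠ 0 := by
      rintro rfl
      apply hD
      rw [h00, h11, h01]
      ring
    rw [D.hom_apply, h00, h01, h10, h11, D.f_zero, zero_div, div_self ha0, D.u_zero, D.h_one, one_mul]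

end Data

end Cfsg.Agent.H859.PGLHom
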