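import Cfsg.Agent.H859.PGLHom

/-!
# `PGL₂(p)` from three elements (helper859)

`exists_data` : elements `u h w` of a group with `u ^ p = 1`, `h ^ (p - 1) = 1`, `h u h⁻¹ = u ^ r` (`r` a primitive
root modulo `p`), `w² = (w h)² = (w u)³ = 1` give `PGLHom.Data (ZMod p) K`;
`exists_equiv` : if moreover `u ≠ 1` and `3 < p`, the subgroup `⟨u, h, w⟩` contains (is) a copy of `PGL₂(p)`.
-/

set_option autoImplicit false

namespace Cfsg.Agent.H859.PGLPres

open Cfsg.Agent.H859.PGLHom

variable {K : Type*} [Group K] {p : ℕ} [hp : Fact p.Prime]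

omit hp in
theorem upow_mod {u : K} (hu : u ^ p = 1) (n : ℕ) : u ^ (n % p) = u ^ n := by
  conv_rhs => rw [← Nat.div_add_mod n p, pow_add, pow_mul, hu, one_pow, one_mul]

/-- the function `s ↦ u ^ s` -/
def U (u : K) (s : ZMod p) : K := u ^ s.val

theorem U_cast {u : K} (hu : u ^ p = 1) (n : ℕ) : U u (n : ZMod p) = u ^ n := by
  unfold U
  rw [ZMod.val_natCast, upow_mod hu]

theorem U_add {u : K} (hu : u ^ p = 1) (s t : ZMod p) : U u (s + t) = U u s * U u t := by
  unfold U
  rw [ZMod.val_add, upow_mod hu, pow_add]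

theorem conj_pow {u h : K} {k : ℕ} (h1 : h * u = u ^ k * h) (n : ℕ) : h * u ^ n = u ^ (k * n) * h := by
  induction n with
  | zero => simp
  | succ n ih => rw [pow_succ, ← mul_assoc, ih, mul_assoc, h1, ← mul_assoc, ← pow_add, Nat.mul_succ]

theorem conj_pow' {u h : K} {k : ℕ} (h1 : h * u = u ^ k * h) (m n : ℕ) :
    h ^ m * u ^ n = u ^ (k ^ m * n) * h ^ m := by
  induction m generalizing n with
  | zero => simp
  | succ m ih => rw [pow_succ, mul_assoc, conj_pow h1, ← mul_assoc, ih, mul_assoc, pow_succ, mul_assoc]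

/-- **the data from three elements** -/
theorem exists_data (u h w : K) (k : ℕ) (hk : ∀ a : ZMod p, a ≠ 0 → ∃ n : ℕ, a = (k : ZMod p) ^ n)
    (hk0 : (k : ZMod p) ≠ 0)
    (hu : u ^ p = 1) (hh : h ^ (p - 1) = 1) (h1 : h * u = u ^ k * h) (hw : w * w = 1)
    (h2 : w * h * w * h = 1) (h3 : w * u * w * u * w * u = 1) :
    ∃ D : Data (ZMod p) K, (∀ s, D.u s = u ^ s.val) ∧ D.w = w ∧ ∀ n : ℕ, D.h ((k : ZMod p) ^ n) = h ^ n := by
  classical
  have hne : ∀ n : ℕ, (k : ZMod p) ^ n ≠ 0 := fun n => pow_ne_zero n hk0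
  -- the exponent is well defined
  have hwd : ∀ m n : ℕ, (k : ZMod p) ^ m = (k : ZMod p) ^ n → h ^ m = h ^ n := by
    let κ : (ZMod p)ˣ := Units.mk0 (k : ZMod p) hk0
    have hgen : ∀ x : (ZMod p)ˣ, x ∈ Subgroup.zpowers κ := by
      intro x
      obtain ⟨n, hn⟩ := hk (x : ZMod p) x.ne_zero
      refine ⟨n, ?_⟩
      apply Units.ext
      rw [hn]
      simp [κ]
    have ho : orderOf κ = p - 1 := by
      rw [orderOf_eq_card_of_forall_mem_zpowers hgen, Nat.card_eq_fintype_card, ZMod.card_units]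
    have hd : orderOf h ∣ p - 1 := orderOf_dvd_of_pow_eq_one hh
    intro m n hmn
    have hmn' : κ ^ m = κ ^ n := by
      apply Units.ext
      rw [Units.val_pow_eq_pow_val, Units.val_pow_eq_pow_val]
      exact hmn
    rw [pow_eq_pow_iff_modEq, ho] at hmn'
    rw [pow_eq_pow_iff_modEq]
    exact hmn'.of_dvd hd
  let H : ZMod p → K := fun a => if ha : a ≠ 0 then h ^ (hk a ha).choose else 1
  have hH : ∀ n : ℕ, H ((k : ZMod p) ^ n) = h ^ n := by
    intro n
    have h4 : H ((k : ZMod p) ^ n) = h ^ (hk _ (hne n)).choose := dif_pos (hne n)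
    rw [h4]
    exact hwd _ _ (hk _ (hne n)).choose_spec.symm
  have hwh : w * h = h⁻¹ * w := by
    have h4 : w * h * (w * h) = 1 := by rw [← mul_assoc]; exact h2
    have h5 : w⁻¹ = w := inv_eq_of_mul_eq_one_left hw
    have h6 := eq_inv_of_mul_eq_one_left h4
    rw [h6, mul_inv_rev, h5]
  have hwhn : ∀ n : ℕ, w * h ^ n = (h ^ n)⁻¹ * w := by
    intro n
    induction n with
    | zero => simp
    | succ n ih => rw [pow_succ, ← mul_assoc, ih, mul_assoc, hwh, ← mul_assoc, ← mul_inv_rev, ← pow_succ', pow_succ]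
  let D : Data (ZMod p) K :=
    { u := U u
      h := H
      w := w
      u_add := U_add hu
      h_mul := by
        intro a b ha hb
        obtain ⟨m, rfl⟩ := hk a ha
        obtain ⟨n, rfl⟩ := hk b hb
        rw [← pow_add, hH, hH, hH, pow_add]
      h_u := by
        intro a b ha
        obtain ⟨m, rfl⟩ := hk a ha
        rw [hH]
        have h4 : U u b = u ^ b.val := rfl
        rw [h4, conj_pow' h1, ← U_cast hu]
        congr 2
        push_cast
        rw [ZMod.natCast_zmod_val]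
      w_w := hw
      w_h := by
        intro a ha
        obtain ⟨m, rfl⟩ := hk a ha
        obtain ⟨n, hn⟩ := hk ((k : ZMod p) ^ m)⁻¹ (inv_ne_zero ha)
        rw [hn, hH, hH, hwhn]
        congr 1
        have h4 : (k : ZMod p) ^ (m + n) = (k : ZMod p) ^ 0 := by
          rw [pow_add, ← hn, mul_inv_cancel₀ ha, pow_zero]
        have h5 := hwd _ _ h4
        rw [pow_add, pow_zero] at h5
        exact inv_eq_of_mul_eq_one_right h5
      w_u := by
        have h4 : U u (1 : ZMod p) = u := by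
          have := U_cast (p := p) hu 1
          rw [Nat.cast_one, pow_one] at this
          exact this
        have h5 : U u (-1 : ZMod p) = u⁻¹ := by
          apply eq_inv_of_mul_eq_one_left
          nth_rw 2 [← h4]
          rw [← U_add hu, neg_add_cancel]
          unfold U
          rw [ZMod.val_zero, pow_zero]
        rw [h4, h5]
        have h6 : w⁻¹ = w := inv_eq_of_mul_eq_one_left hw
        have h7 : (w * u * w) * (u * w * u) = 1 := by
          rw [← h3]
          simp only [mul_assoc]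
        rw [eq_inv_of_mul_eq_one_left h7, mul_inv_rev, mul_inv_rev, h6]
        simp only [mul_assoc] }
  exact ⟨D, fun s => rfl, rfl, hH⟩

/-- **a copy of `PGL₂(p)`** -/
theorem exists_equiv (u h w : K) (k : ℕ) (hk : ∀ a : ZMod p, a ≠ 0 → ∃ n : ℕ, a = (k : ZMod p) ^ n)
    (hk0 : (k : ZMod p) ≠ 0) (hp3 : 3 < p)
    (hu : u ^ p = 1) (hh : h ^ (p - 1) = 1) (h1 : h * u = u ^ k * h) (hw : w * w = 1)
    (h2 : w * h * w * h = 1) (h3 : w * u * w * u * w * u = 1) (hu1 : u ≠ 1) :
    ∃ L : Subgroup K, u ∈ L ∧ h ∈ L ∧ w ∈ L ∧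
      Nonempty (↥L ≃* GL (Fin 2) (ZMod p) ⧸ Subgroup.center (GL (Fin 2) (ZMod p))) := by
  obtain ⟨D, hDu, hDw, hDh⟩ := exists_data u h w k hk hk0 hu hh h1 hw h2 h3
  have ho : orderOf u = p := orderOf_eq_prime hu hu1
  have hker : D.hom.ker = Subgroup.center (GL (Fin 2) (ZMod p)) := by
    apply D.ker_eq
    · intro s hs
      rw [hDu] at hs
      have h4 := orderOf_dvd_of_pow_eq_one hs
      rw [ho] at h4
      have h5 := Nat.eq_zero_of_dvd_of_lt h4 (ZMod.val_lt s)
      exact (ZMod.val_eq_zero s).1 h5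
    · intro h4
      have h5 : ((2 : ℕ) : ZMod p) = 0 := by exact_mod_cast h4
      rw [ZMod.natCast_eq_zero_iff] at h5
      have := Nat.le_of_dvd (by norm_num) h5
      omega
    · intro h4
      have h5 : ((3 : ℕ) : ZMod p) = 0 := by exact_mod_cast h4
      rw [ZMod.natCast_eq_zero_iff] at h5
      have := Nat.le_of_dvd (by norm_num) h5
      omega
  refine ⟨D.hom.range, ?_, ?_, ?_, ?_⟩
  · refine ⟨Matrix.GeneralLinearGroup.mkOfDetNeZero !![1, 1; 0, 1] (by
      rw [Matrix.det_fin_two_of]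
      simp), ?_⟩
    rw [D.hom_apply]
    show D.f 1 1 0 1 = u
    rw [D.f_zero, div_one, D.h_one, mul_one, hDu, ZMod.val_one'' (by omega), pow_one]
  · refine ⟨Matrix.GeneralLinearGroup.mkOfDetNeZero !![(k : ZMod p), 0; 0, 1] (by
      rw [Matrix.det_fin_two_of]
      simpa using hk0), ?_⟩
    rw [D.hom_apply]
    show D.f (k : ZMod p) 0 0 1 = h
    rw [D.f_zero, div_one, div_one, D.u_zero, one_mul]
    have := hDh 1
    rwa [pow_one, pow_one] at this
  · refine ⟨Matrix.GeneralLinearGroup.mkOfDetNeZero !![0, 1; -1, 0] (by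
      rw [Matrix.det_fin_two_of]
      simp), ?_⟩
    rw [D.hom_apply]
    show D.f 0 1 (-1) 0 = w
    rw [D.f_ne (neg_ne_zero.2 one_ne_zero), zero_div, D.u_zero, one_mul, mul_one]
    have e : (-1 : ZMod p) ^ 2 / (0 * 0 - 1 * -1) = 1 := by
      rw [neg_one_sq]
      norm_num
    rw [e, D.h_one, mul_one, hDw]
  · exact ⟨((QuotientGroup.quotientMulEquivOfEq hker.symm).trans
      (QuotientGroup.quotientKerEquivRange D.hom)).symm⟩

end Cfsg.Agent.H859.PGLPres
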